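import Mathlib
import Cfsg.Agent.Characters.Core
import Cfsg.Agent.Characters.Linear

/-!
# Zeros of characters from the constituents on a normal subgroup (helper279, S4842)

`N ⊴ G`, `ψ` a character of `G`, `l ∈ G`.  If for every constituent `φ` of `ψ|_N` either `l` moves `φ`, or `l = t k`,
`t` centralizes `N`, `k ∈ N`, `φ k = 0`, then `ψ l = 0` (`eq_zero_of_constituents`).
-/

set_option autoImplicit false

open scoped ComplexConjugate
open Cfsg Representation Module Cfsg.Agent.Characters Cfsg.Agent.Characters.Core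

namespace Cfsg.Agent.H279.OZ

universe u v

section act

variable {K : Type u} [Group K] [Fintype K]

/-- the operator `∑ a(k) ρ(k⁻¹)` -/
noncomputable def act {V : Type*} [AddCommGroup V] [Module ℂ V] (a : K → ℂ) (ρ : Representation ℂ K V) :
    Module.End ℂ V := ∑ k : K, a k • ρ k⁻¹

theorem act_sub {V : Type*} [AddCommGroup V] [Module ℂ V] {ρ : Representation ℂ K V} (a : K → ℂ)
    (U : Subrepresentation ρ) (x : U.toSubmodule) :
    ((act a U.toRepresentation x : U.toSubmodule) : V) = act a ρ (x : V) := by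
  simp only [act, LinearMap.sum_apply, LinearMap.smul_apply, Submodule.coe_sum, Submodule.coe_smul]
  rfl

/-- a product of two such operators vanishing on the irreducible representations vanishes on all -/
theorem act_mul_act_eq_zero {a b : K → ℂ}
    (h : ∀ (W : Type v) [AddCommGroup W] [Module ℂ W] [FiniteDimensional ℂ W] (σ : Representation ℂ K W),
      σ.IsIrreducible → act a σ * act b σ = 0)
    (V : Type v) [AddCommGroup V] [Module ℂ V] [FiniteDimensional ℂ V] (ρ : Representation ℂ K V) :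
    act a ρ * act b ρ = 0 := by
  refine rep_induction (P := fun V _ _ ρ => act a ρ * act b ρ = 0) ?_ ?_ V ρ
  · intro V _ _ ρ hV
    ext x
    exact Subsingleton.elim _ _
  · intro V _ _ _ ρ U U' hUU' hU hU'
    have hU0 := h _ U.toRepresentation hU
    ext x
    obtain ⟨y, hy, z, hz, rfl⟩ : ∃ y ∈ U.toSubmodule, ∃ z ∈ U'.toSubmodule, y + z = x := by
      rw [← Submodule.mem_sup, hUU'.sup_eq_top]
      trivial
    have e1 := congrArg (fun T => ((T ⟨y, hy⟩ : U.toSubmodule) : V)) hU0
    have e2 := congrArg (fun T => ((T ⟨z, hz⟩ : U'.toSubmodule) : V)) hU'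
    simp only [Module.End.mul_apply, LinearMap.zero_apply, Submodule.coe_zero, act_sub] at e1 e2
    rw [map_add, Module.End.mul_apply, Module.End.mul_apply, LinearMap.zero_apply, e1, e2, add_zero]

/-- an irreducible character acts as zero on the representations without this constituent -/
theorem act_eq_zero_of_irr {f : K → ℂ} (hf : IsClassFunction K f) {W : Type*} [AddCommGroup W] [Module ℂ W]
    [FiniteDimensional ℂ W] (σ : Representation ℂ K W) (hσ : σ.IsIrreducible)
    (h : classInner f σ.character = 0) : act f σ = 0 := by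
  obtain ⟨c, hc⟩ := exists_sum_smul_rho_inv_eq_smul_one hf σ hσ
  have hirr := isIrrCharacter_of_rep σ hσ
  have htr := congrArg (LinearMap.trace ℂ W) hc
  rw [map_sum, map_smul, LinearMap.trace_one] at htr
  rw [classInner_def, mul_eq_zero] at h
  have h2 := h.resolve_left (inv_ne_zero card_ne_zero_complex)
  have h3 : ∑ g : K, LinearMap.trace ℂ W (f g • σ g⁻¹) = 0 := by
    rw [← h2]
    refine Finset.sum_congr rfl fun g _ => ?_
    rw [map_smul, ← isCharacter_apply_inv (isIrr_isCharacter hirr) g]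
    rfl
  rw [h3] at htr
  have h4 : (finrank ℂ W : ℂ) ≠ 0 := by
    have := isIrr_apply_one_ne_zero hirr
    rwa [char_one] at this
  have h5 : c = 0 := by
    rw [smul_eq_mul] at htr
    exact (mul_eq_zero.mp htr.symm).resolve_right h4
  rw [act, hc, h5, zero_smul]

theorem act_eq_zero {f : K → ℂ} (hf : IsIrrCharacter K f) (V : Type v) [AddCommGroup V] [Module ℂ V]
    [FiniteDimensional ℂ V] (ρ : Representation ℂ K V) (h : classInner ρ.character f = 0) : act f ρ = 0 := by
  revert h
  refine rep_induction (P := fun V _ _ ρ => classInner ρ.character f = 0 → act f ρ = 0) ?_ ?_ V ρ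
  · intro V _ _ ρ hV _
    ext x
    exact Subsingleton.elim _ _
  · intro V _ _ _ ρ U U' hUU' hU hU' h
    rw [character_eq_add_of_isCompl U U' hUU', classInner_add_left] at h
    obtain ⟨m, hm⟩ := classInner_isNat (isCharacter_of_rep U.toRepresentation) (isIrr_isCharacter hf)
    obtain ⟨n, hn⟩ := classInner_isNat (isCharacter_of_rep U'.toRepresentation) (isIrr_isCharacter hf)
    rw [hm, hn] at h
    have h1 : m + n = 0 := by exact_mod_cast h
    have h2 : m = 0 := by omega
    have h3 : n = 0 := by omega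
    rw [h3, Nat.cast_zero] at hn
    rw [h2, Nat.cast_zero] at hm
    have hU0 := act_eq_zero_of_irr (isIrr_isClassFunction hf) U.toRepresentation hU (by
      rw [← classInner_conj_symm, hm, map_zero])
    have hU'0 := hU' hn
    ext x
    obtain ⟨y, hy, z, hz, rfl⟩ : ∃ y ∈ U.toSubmodule, ∃ z ∈ U'.toSubmodule, y + z = x := by
      rw [← Submodule.mem_sup, hUU'.sup_eq_top]
      trivial
    have e1 := congrArg (fun T => ((T ⟨y, hy⟩ : U.toSubmodule) : V)) hU0
    have e2 := congrArg (fun T => ((T ⟨z, hz⟩ : U'.toSubmodule) : V)) hU'0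
    simp only [LinearMap.zero_apply, Submodule.coe_zero, act_sub] at e1 e2
    rw [map_add, LinearMap.zero_apply, e1, e2, add_zero]

theorem act_mul_act_irr {f g : K → ℂ} (hf : IsIrrCharacter K f) (hg : IsIrrCharacter K g) (hfg : f ≠ g)
    (V : Type v) [AddCommGroup V] [Module ℂ V] [FiniteDimensional ℂ V] (ρ : Representation ℂ K V) :
    act f ρ * act g ρ = 0 := by
  refine act_mul_act_eq_zero (fun W _ _ _ σ hσ => ?_) V ρ
  have hirr := isIrrCharacter_of_rep σ hσ
  by_cases h : σ.character = f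
  · rw [act_eq_zero_of_irr (isIrr_isClassFunction hg) σ hσ (classInner_irr_ne hg hirr fun h1 =>
      hfg (h.symm.trans h1.symm)), mul_zero]
  · rw [act_eq_zero_of_irr (isIrr_isClassFunction hf) σ hσ (classInner_irr_ne hf hirr fun h1 => h h1.symm),
      zero_mul]

/-- completeness -/
theorem sum_act [Fintype (IrrCharacter K)] {V : Type*} [AddCommGroup V] [Module ℂ V] (ρ : Representation ℂ K V) :
    ∑ φ : IrrCharacter K, (φ : K → ℂ) 1 • act (φ : K → ℂ) ρ = (Nat.card K : ℂ) • (1 : Module.End ℂ V) := by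
  classical
  have h1 : IsClassFunction K (fun k : K => if k = 1 then (1 : ℂ) else 0) := by
    intro g h
    simp [mul_inv_eq_one]
  have h2 : ∀ φ : IrrCharacter K, (Nat.card K : ℂ) * classInner (fun k : K => if k = 1 then (1 : ℂ) else 0) (φ : K → ℂ) =
      (φ : K → ℂ) 1 := by
    intro φ
    rw [classInner_def, ← mul_assoc, mul_inv_cancel₀ card_ne_zero_complex, one_mul]
    simp only [ite_mul, one_mul, zero_mul, Finset.sum_ite_eq', Finset.mem_univ, if_true]
    rw [← isCharacter_apply_inv (isIrr_isCharacter φ.2), inv_one]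
  have h3 : ∀ k : K, ∑ φ : IrrCharacter K, (φ : K → ℂ) 1 * (φ : K → ℂ) k = if k = 1 then (Nat.card K : ℂ) else 0 := by
    intro k
    have h4 := congrFun (classFunction_eq_sum h1) k
    rw [Finset.sum_apply] at h4
    have h5 : (if k = 1 then (Nat.card K : ℂ) else 0) = (Nat.card K : ℂ) * (if k = 1 then (1 : ℂ) else 0) := by
      split_ifs <;> simp
    rw [h5, h4, Finset.mul_sum]
    refine Finset.sum_congr rfl fun φ _ => ?_
    rw [Pi.smul_apply, smul_eq_mul, ← mul_assoc, h2]
  simp only [act, Finset.smul_sum, smul_smul]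
  rw [Finset.sum_comm]
  have h4 : ∀ k : K, ∑ φ : IrrCharacter K, ((φ : K → ℂ) 1 * (φ : K → ℂ) k) • ρ k⁻¹ =
      if k = 1 then (Nat.card K : ℂ) • (1 : Module.End ℂ V) else 0 := by
    intro k
    rw [← Finset.sum_smul, h3]
    split_ifs with h
    · rw [h, inv_one, map_one]
    · rw [zero_smul]
  rw [Finset.sum_congr rfl fun k _ => h4 k]
  simp

/-- the average of the conjugates of `k` is zero on the constituent `φ` with `φ k = 0` -/
theorem avg_mul_act {f : K → ℂ} (hf : IsIrrCharacter K f) {k : K} (hk : f k = 0)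
    (V : Type v) [AddCommGroup V] [Module ℂ V] [FiniteDimensional ℂ V] (ρ : Representation ℂ K V) :
    (∑ y : K, ρ (y * k * y⁻¹)) * act f ρ = 0 := by
  classical
  -- the class sum as an operator `act`
  set a : K → ℂ := fun x => ∑ y : K, if x⁻¹ = y * k * y⁻¹ then 1 else 0 with ha
  have h1 : ∀ (W : Type v) [AddCommGroup W] [Module ℂ W] (σ : Representation ℂ K W),
      ∑ y : K, σ (y * k * y⁻¹) = act a σ := by
    intro W _ _ σ
    simp only [act, ha, Finset.sum_smul]
    rw [Finset.sum_comm]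
    refine Finset.sum_congr rfl fun y _ => ?_
    rw [Finset.sum_eq_single (y * k * y⁻¹)⁻¹]
    · simp
    · intro b _ hb
      rw [if_neg, zero_smul]
      intro h
      exact hb (by rw [← h, inv_inv])
    · intro h
      exact absurd (Finset.mem_univ _) h
  rw [h1]
  refine act_mul_act_eq_zero (fun W _ _ _ σ hσ => ?_) V ρ
  have hirr := isIrrCharacter_of_rep σ hσ
  by_cases h : σ.character = f
  · have h2 : act a σ = 0 := by
      refine act_eq_zero_of_irr ?_ σ hσ ?_
      · intro x g
        simp only [ha]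
        refine Fintype.sum_equiv (Equiv.mulLeft g⁻¹) _ _ fun y => ?_
        simp only [Equiv.coe_mulLeft]
        congr 1
        apply propext
        constructor
        · intro h
          have h3 : x⁻¹ = g⁻¹ * (g * x * g⁻¹)⁻¹ * g := by group
          rw [h3, h]
          group
        · intro h
          have h3 : (g * x * g⁻¹)⁻¹ = g * x⁻¹ * g⁻¹ := by group
          rw [h3, h]
          group
      · rw [classInner_def]
        have h3 : ∑ x : K, a x * conj (σ.character x) = 0 := by
          have h4 : ∀ x : K, a x * conj (σ.character x) = ∑ y : K, if x⁻¹ = y * k * y⁻¹ then f k else 0 := by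
            intro x
            simp only [ha, Finset.sum_mul]
            refine Finset.sum_congr rfl fun y _ => ?_
            split_ifs with h5
            · rw [one_mul, ← isCharacter_apply_inv (isIrr_isCharacter hirr), h5, h]
              exact isIrr_isClassFunction hf _ _
            · rw [zero_mul]
          rw [Finset.sum_congr rfl fun x _ => h4 x]
          simp [hk]
        rw [h3, mul_zero]
    rw [h2, zero_mul]
  · rw [act_eq_zero_of_irr (isIrr_isClassFunction hf) σ hσ (classInner_irr_ne hf hirr fun h1 => h h1.symm),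
      mul_zero]

end act

section normal

variable {G : Type u} [Group G] {N : Subgroup G} [Fintype N] {V : Type v} [AddCommGroup V] [Module ℂ V]
  [FiniteDimensional ℂ V] (ρ : Representation ℂ G V)

/-- the restriction to `N` -/
noncomputable abbrev rs (N : Subgroup G) (ρ : Representation ℂ G V) : Representation ℂ N V := ρ.comp N.subtype

omit [FiniteDimensional ℂ V] in
/-- conjugation of the operators -/
theorem act_mul_rho (a : N → ℂ) (l : G) (hl : ∀ k ∈ N, l * k * l⁻¹ ∈ N) (hl' : ∀ k ∈ N, l⁻¹ * k * l ∈ N) :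
    ρ l * act (fun k : N => a ⟨l * k * l⁻¹, hl k k.2⟩) (rs N ρ) = act a (rs N ρ) * ρ l := by
  have e : ∀ x y : G, ρ (x * y) = ρ x * ρ y := fun x y => map_mul ρ x y
  simp only [act, Finset.mul_sum, Finset.sum_mul]
  let f : N ≃ N :=
    { toFun := fun k => ⟨l * k * l⁻¹, hl k k.2⟩
      invFun := fun k => ⟨l⁻¹ * k * l, hl' k k.2⟩
      left_inv := fun k => Subtype.ext (by show l⁻¹ * (l * k * l⁻¹) * l = k; group)
      right_inv := fun k => Subtype.ext (by show l * (l⁻¹ * k * l) * l⁻¹ = k; group) }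
  refine Fintype.sum_equiv f _ _ fun k => ?_
  show ρ l * (a (f k) • ρ ((k⁻¹ : N) : G)) = (a (f k) • ρ (((f k)⁻¹ : N) : G)) * ρ l
  rw [mul_smul_comm, smul_mul_assoc, ← e, ← e]
  congr 2
  show l * (k : G)⁻¹ = (l * k * l⁻¹)⁻¹ * l
  group

/-- **Zeros from the constituents.** -/
theorem eq_zero_of_constituents {ψ : G → ℂ} (hψ : IsCharacter G ψ) (l : G) (hl : ∀ k ∈ N, l * k * l⁻¹ ∈ N)
    (hl' : ∀ k ∈ N, l⁻¹ * k * l ∈ N)
    (h : ∀ φ : N → ℂ, IsIrrCharacter N φ → classInner (fun k : N => ψ k) φ ≠ 0 →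
      (∃ k : N, φ ⟨l * k * l⁻¹, hl k k.2⟩ ≠ φ k) ∨
      ∃ (t : G) (k : N), l = t * k ∧ (∀ x ∈ N, t * x = x * t) ∧ φ k = 0) : ψ l = 0 := by
  classical
  obtain ⟨n, ρ, rfl⟩ := hψ
  have e : ∀ x y : G, ρ (x * y) = ρ x * ρ y := fun x y => map_mul ρ x y
  have hfin := finite_irr (G := N)
  have : Fintype (IrrCharacter N) := Fintype.ofFinite _
  have hsum := sum_act (rs N ρ)
  have hc : (Nat.card N : ℂ) ≠ 0 := card_ne_zero_complex
  -- every summand is zero
  have key : ∀ φ : IrrCharacter N, LinearMap.trace ℂ _ (ρ l * act (φ : N → ℂ) (rs N ρ)) = 0 := by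
    intro φ
    by_cases h0 : classInner (fun k : N => ρ.character k) (φ : N → ℂ) = 0
    · have h1 : act (φ : N → ℂ) (rs N ρ) = 0 := act_eq_zero φ.2 _ (rs N ρ) h0
      rw [h1, mul_zero, map_zero]
    rcases h φ φ.2 h0 with ⟨k, hk⟩ | ⟨t, k, rfl, ht, hk⟩
    · -- `l` moves `φ`
      set φ' : N → ℂ := fun k : N => (φ : N → ℂ) ⟨l * k * l⁻¹, hl k k.2⟩ with hφ'
      have hne : φ' ≠ φ := fun h1 => hk (congrFun h1 k)
      have hirr : IsIrrCharacter N φ' := by
        let f : N →* N :=
          { toFun := fun k => ⟨l * k * l⁻¹, hl k k.2⟩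
            map_one' := Subtype.ext (by show l * 1 * l⁻¹ = 1; group)
            map_mul' := fun x y => Subtype.ext (by
              show l * (x * y) * l⁻¹ = (l * x * l⁻¹) * (l * y * l⁻¹)
              group) }
        have hf : Function.Surjective f := fun k => ⟨⟨l⁻¹ * k * l, hl' k k.2⟩, Subtype.ext (by
          show l * (l⁻¹ * k * l) * l⁻¹ = k
          group)⟩
        exact isIrr_comp f hf φ.2
      have h1 : act φ' (rs N ρ) * act (φ : N → ℂ) (rs N ρ) = 0 := act_mul_act_irr hirr φ.2 hne _ _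
      -- `|N| tr(ρ l E) = φ(1) tr (ρ l E E)`
      have h2 : (Nat.card N : ℂ) * LinearMap.trace ℂ _ (ρ l * act (φ : N → ℂ) (rs N ρ)) =
          (φ : N → ℂ) 1 * LinearMap.trace ℂ _ (ρ l * act (φ : N → ℂ) (rs N ρ) * act (φ : N → ℂ) (rs N ρ)) := by
        have h3 : (Nat.card N : ℂ) • (ρ l * act (φ : N → ℂ) (rs N ρ)) =
            (φ : N → ℂ) 1 • (ρ l * act (φ : N → ℂ) (rs N ρ) * act (φ : N → ℂ) (rs N ρ)) := by
          have h4 : (Nat.card N : ℂ) • (ρ l * act (φ : N → ℂ) (rs N ρ)) =
              ρ l * act (φ : N → ℂ) (rs N ρ) * ((Nat.card N : ℂ) • (1 : Module.End ℂ (Fin n → ℂ))) := by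
            rw [mul_smul_comm, mul_one]
          rw [h4, ← hsum, Finset.mul_sum, Finset.sum_eq_single φ]
          · rw [mul_smul_comm]
          · intro θ _ hθ
            rw [mul_smul_comm, mul_assoc, act_mul_act_irr φ.2 θ.2 (fun h5 => hθ (Subtype.ext h5.symm)) _
              (rs N ρ), mul_zero, smul_zero]
          · intro h5
            exact absurd (Finset.mem_univ _) h5
        have h4 := congrArg (LinearMap.trace ℂ _) h3
        rwa [map_smul, map_smul, smul_eq_mul, smul_eq_mul] at h4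
      have h3 : LinearMap.trace ℂ _ (ρ l * act (φ : N → ℂ) (rs N ρ) * act (φ : N → ℂ) (rs N ρ)) = 0 := by
        rw [LinearMap.trace_mul_comm, ← mul_assoc, ← act_mul_rho ρ (φ : N → ℂ) l hl hl', mul_assoc]
        show LinearMap.trace ℂ _ (ρ l * (act φ' (rs N ρ) * act (φ : N → ℂ) (rs N ρ))) = 0
        rw [h1, mul_zero, map_zero]
      rw [h3, mul_zero] at h2
      exact (mul_eq_zero.1 h2).resolve_left hc
    · -- `l = t k`
      have h1 : (∑ y : N, (rs N ρ) (y * k * y⁻¹)) * act (φ : N → ℂ) (rs N ρ) = 0 := avg_mul_act φ.2 hk _ _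
      have h2 : ∀ y : N, LinearMap.trace ℂ _ (ρ t * (rs N ρ) (y * k * y⁻¹) * act (φ : N → ℂ) (rs N ρ)) =
          LinearMap.trace ℂ _ (ρ (t * k) * act (φ : N → ℂ) (rs N ρ)) := by
        intro y
        have h3 : act (φ : N → ℂ) (rs N ρ) * ρ (y : G) = ρ (y : G) * act (φ : N → ℂ) (rs N ρ) := by
          have h4 := act_mul_rho ρ (φ : N → ℂ) (y : G) (fun k hk => mul_mem (mul_mem y.2 hk) (inv_mem y.2))
            (fun k hk => mul_mem (mul_mem (inv_mem y.2) hk) y.2)
          rw [← h4]
          congr 2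
          funext k
          exact isIrr_isClassFunction φ.2 k y
        have h4 : ρ t * (rs N ρ) (y * k * y⁻¹) = ρ (y : G) * ρ (t * k) * ρ ((y : G)⁻¹) := by
          show ρ t * ρ ((y : G) * k * (y : G)⁻¹) = _
          rw [← e, ← e, ← e]
          congr 1
          calc t * ((y : G) * k * (y : G)⁻¹) = (t * (y : G)) * k * (y : G)⁻¹ := by group
            _ = ((y : G) * t) * k * (y : G)⁻¹ := by rw [ht y y.2]
            _ = (y : G) * (t * k) * (y : G)⁻¹ := by group
        have h5 : ρ ((y : G)⁻¹) * ρ (y : G) = 1 := by rw [← e, inv_mul_cancel, map_one]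
        rw [h4, mul_assoc, LinearMap.trace_mul_comm]
        have h6 : ρ ((y : G)⁻¹) * act (φ : N → ℂ) (rs N ρ) * (ρ (y : G) * ρ (t * k)) =
            act (φ : N → ℂ) (rs N ρ) * ρ (t * k) := by
          rw [← mul_assoc, mul_assoc (ρ ((y : G)⁻¹)), h3, ← mul_assoc, h5, one_mul]
        rw [h6, LinearMap.trace_mul_comm]
      have h3 : (Nat.card N : ℂ) * LinearMap.trace ℂ _ (ρ (t * k) * act (φ : N → ℂ) (rs N ρ)) = 0 := by
        have h4 : ∑ y : N, LinearMap.trace ℂ _ (ρ t * (rs N ρ) (y * k * y⁻¹) * act (φ : N → ℂ) (rs N ρ)) =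
            (Nat.card N : ℂ) * LinearMap.trace ℂ _ (ρ (t * k) * act (φ : N → ℂ) (rs N ρ)) := by
          rw [Finset.sum_congr rfl fun y _ => h2 y, Finset.sum_const, Finset.card_univ, nsmul_eq_mul,
            Nat.card_eq_fintype_card]
        rw [← h4, ← map_sum]
        simp only [mul_assoc]
        rw [← Finset.mul_sum, ← Finset.sum_mul]
        have h5 : (∑ y : N, (rs N ρ) (y * (k * y⁻¹))) * act (φ : N → ℂ) (rs N ρ) = 0 := by
          rw [← h1]
          simp only [mul_assoc]
        rw [h5, mul_zero, map_zero]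
      exact (mul_eq_zero.1 h3).resolve_left hc
  have h1 : (Nat.card N : ℂ) * ρ.character l = 0 := by
    have h2 : (Nat.card N : ℂ) • ρ l = ∑ φ : IrrCharacter N, (φ : N → ℂ) 1 • (ρ l * act (φ : N → ℂ) (rs N ρ)) := by
      have h3 : (Nat.card N : ℂ) • ρ l = ρ l * ((Nat.card N : ℂ) • (1 : Module.End ℂ (Fin n → ℂ))) := by
        rw [mul_smul_comm, mul_one]
      rw [h3, ← hsum, Finset.mul_sum]
      exact Finset.sum_congr rfl fun φ _ => mul_smul_comm _ _ _
    have h3 := congrArg (LinearMap.trace ℂ _) h2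
    rw [map_smul, map_sum, Finset.sum_eq_zero fun φ _ => by rw [map_smul, key φ, smul_zero]] at h3
    exact h3
  exact (mul_eq_zero.1 h1).resolve_left hc

/-- If all constituents on `N` are equal to a linear character `f`, then `N` acts by scalars. -/
theorem apply_mul_of_linear {ψ : G → ℂ} (hψ : IsCharacter G ψ) (f : N →* ℂˣ)
    (h : ∀ φ : N → ℂ, IsIrrCharacter N φ → classInner (fun k : N => ψ k) φ ≠ 0 → φ = fun k => (f k : ℂ))
    (t : G) (k : N) : ψ (t * k) = f k * ψ t := by
  classical
  obtain ⟨n, ρ, rfl⟩ := hψ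
  have hfin := finite_irr (G := N)
  have : Fintype (IrrCharacter N) := Fintype.ofFinite _
  have hsum := sum_act (rs N ρ)
  have hc : (Nat.card N : ℂ) ≠ 0 := card_ne_zero_complex
  have hfi : IsIrrCharacter N (fun k : N => (f k : ℂ)) := Linear.isIrrCharacter_hom f
  rw [Finset.sum_eq_single (⟨_, hfi⟩ : IrrCharacter N)] at hsum
  · have h1 : ((⟨_, hfi⟩ : IrrCharacter N) : N → ℂ) 1 = 1 := by
      show ((f 1 : ℂˣ) : ℂ) = 1
      rw [map_one, Units.val_one]
    rw [h1, one_smul] at hsum
    -- `ρ k E = f k E`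
    have h2 : (rs N ρ) k * act (fun k : N => (f k : ℂ)) (rs N ρ) =
        (f k : ℂ) • act (fun k : N => (f k : ℂ)) (rs N ρ) := by
      simp only [act, Finset.mul_sum, Finset.smul_sum]
      refine Fintype.sum_equiv (Equiv.mulRight k⁻¹) _ _ fun x => ?_
      rw [mul_smul_comm, ← map_mul, smul_smul]
      simp only [Equiv.coe_mulRight, mul_inv_rev, inv_inv]
      congr 1
      rw [← Units.val_mul]
      congr 1
      rw [map_mul, map_inv, mul_comm (f x), mul_inv_cancel_left]
    have h3 : act ((⟨_, hfi⟩ : IrrCharacter N) : N → ℂ) (rs N ρ) = act (fun k : N => (f k : ℂ)) (rs N ρ) := rfl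
    rw [h3] at hsum
    rw [hsum] at h2
    have h4 : (rs N ρ) k = (f k : ℂ) • (1 : Module.End ℂ (Fin n → ℂ)) := by
      rw [mul_smul_comm, mul_one, smul_comm] at h2
      exact smul_right_injective _ hc h2
    have h5 : ρ (t * (k : G)) = (f k : ℂ) • ρ t := by
      rw [map_mul]
      show ρ t * (rs N ρ) k = _
      rw [h4, mul_smul_comm, mul_one]
    show LinearMap.trace ℂ _ (ρ (t * (k : G))) = (f k : ℂ) * LinearMap.trace ℂ _ (ρ t)
    rw [h5, map_smul, smul_eq_mul]
  · intro φ _ hφ
    have h1 : act (φ : N → ℂ) (rs N ρ) = 0 := by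
      refine act_eq_zero φ.2 _ (rs N ρ) ?_
      by_contra h2
      exact hφ (Subtype.ext (h φ φ.2 h2))
    rw [h1, smul_zero]
  · intro h1
    exact absurd (Finset.mem_univ _) h1

end normal

end Cfsg.Agent.H279.OZ
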