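import Mathlib
import Cfsg.Agent.H279.OZ.Act
import Cfsg.Agent.H695.OneZero.KConst
import Cfsg.Agent.H732.VZ.KC

/-!
# Constancy on `y K` of a character with one class of zeros (S4842, helper279)

`R` abelian Sylow `r`-subgroup, `K ≤ C_G(R)` an `r'`-subgroup normalized by `N_G(R)`, `χ` irreducible.

* `kconst_or` : either `χ (y k) = χ y` for all `k ∈ K` and all `y ∈ R` with `C_G(y) = C_G(R)`, or there is an
  irreducible `φ ≠ 1` of `K` such that `χ (y l) = 0` for all such `y` and all `l ∈ C_G(R)` of order prime to `r` with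
  `Kill K φ n l` for all `n ∈ N_G(R)`.
-/

set_option autoImplicit false

open Cfsg Cfsg.Agent.Characters Cfsg.Agent.Blocks.Basic Cfsg.Agent.H695.OneZero

namespace Cfsg.Agent.H279.OZ

universe u

variable {G : Type u} [Group G]

/-- `l` moves the conjugate `φ^n`, or `l = t k`, `t` centralizes `K` and `φ^n (k) = 0`. -/
def Kill (K : Subgroup G) (φ : K → ℂ) (n l : G) : Prop :=
  (∃ k ∈ K, extendByZero K φ (n * (l * k * l⁻¹) * n⁻¹) ≠ extendByZero K φ (n * k * n⁻¹)) ∨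
    ∃ t k : G, l = t * k ∧ (∀ x ∈ K, t * x = x * t) ∧ k ∈ K ∧ extendByZero K φ (n * k * n⁻¹) = 0

variable [Fintype G] {r : ℕ} [Fact r.Prime]

theorem val_of_centralizer {M : Ideal AlgInt} (hM : IsPModular r M) {L : Subgroup G} {χ : IrrCharacter G}
    [Fintype L] [Fintype (IrrCharacter L)] (S : Finset (IrrCharacter L))
    (hS : ∀ ψ, ψ ∈ S ↔ IsInducedBlock M L (blockOf M ψ.1) (blockOf M χ.1)) {y : G}
    (hy : ∃ k : ℕ, orderOf y = r ^ k) (hL : Subgroup.centralizer ({y} : Set G) = L) :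
    ∃ a : IrrCharacter L → ℂ, ∀ c : L, ¬ r ∣ orderOf (c : G) →
      (χ : G → ℂ) (y * c) = ∑ ψ ∈ S, a ψ * ψ.1 c := by
  subst hL
  refine ⟨fun ψ => classInner (lf y χ) ψ.1, fun c hc => ?_⟩
  have : M.IsPrime := hM.2.1.isPrime
  exact apply_eq_sum_induced hM hy ⟨χ, rfl⟩ (mem_blockOf_self χ) S hS c (by rwa [← Subgroup.orderOf_coe])

/-- **The character `φ` of `K` belonging to `χ`.**  If `φ` is linear and `N_G(R)`-invariant, then `χ (y t k) = φ(k) χ (y t)`;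
and `χ (y l) = 0` if `Kill K φ n l` for all `n ∈ N_G(R)`. -/
theorem exists_phi (R : Sylow r G)
    (hab : (R : Subgroup G) ≤ Subgroup.centralizer ((R : Subgroup G) : Set G))
    (K : Subgroup G) (hKC : K ≤ Subgroup.centralizer ((R : Subgroup G) : Set G))
    (hKr : ¬ r ∣ Nat.card K)
    (hKN : ∀ n ∈ Subgroup.normalizer ((R : Subgroup G) : Set G), ∀ k ∈ K, n * k * n⁻¹ ∈ K)
    (χ : IrrCharacter G) :
    ∃ φ : K → ℂ, IsIrrCharacter K φ ∧
      (∀ f : K →* ℂˣ, (φ = fun k => (f k : ℂ)) →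
        (∀ n ∈ Subgroup.normalizer ((R : Subgroup G) : Set G), ∀ (k : K) (hk : n * k * n⁻¹ ∈ K),
          f ⟨n * k * n⁻¹, hk⟩ = f k) →
        ∀ y ∈ R, Subgroup.centralizer ({y} : Set G) ≤ Subgroup.centralizer ((R : Subgroup G) : Set G) →
          ∀ t ∈ Subgroup.centralizer ((R : Subgroup G) : Set G), ∀ k : K, ¬ r ∣ orderOf t →
            ¬ r ∣ orderOf (t * (k : G)) → (χ : G → ℂ) (y * (t * k)) = f k * (χ : G → ℂ) (y * t)) ∧
      ∀ y ∈ R, Subgroup.centralizer ({y} : Set G) ≤ Subgroup.centralizer ((R : Subgroup G) : Set G) →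
        ∀ l ∈ Subgroup.centralizer ((R : Subgroup G) : Set G), ¬ r ∣ orderOf l →
          (∀ n ∈ Subgroup.normalizer ((R : Subgroup G) : Set G), Kill K φ n l) → (χ : G → ℂ) (y * l) = 0 := by
  classical
  obtain ⟨M, hM⟩ := Cfsg.Agent.Blocks.ExistsModular.exists_isPModular (Fact.out : r.Prime)
  have : M.IsPrime := hM.2.1.isPrime
  obtain ⟨L, hL⟩ : ∃ L : Subgroup G, L = Subgroup.centralizer ((R : Subgroup G) : Set G) := ⟨_, rfl⟩
  rw [← hL]
  have hKL : K ≤ L := hL ▸ hKC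
  have habL : (R : Subgroup G) ≤ L := hL ▸ hab
  have hfin := Core.finite_irr (G := L)
  have : Fintype (IrrCharacter L) := Fintype.ofFinite _
  have : Fintype (K.subgroupOf L) := Fintype.ofFinite _
  have hfin' := Core.finite_irr (G := K.subgroupOf L)
  have : Fintype (IrrCharacter (K.subgroupOf L)) := Fintype.ofFinite _
  have hB : IsPBlock M (blockOf M χ.1) := ⟨χ, rfl⟩
  obtain ⟨S, hS⟩ : ∃ S : Finset (IrrCharacter L),
      ∀ ψ, ψ ∈ S ↔ IsInducedBlock M L (blockOf M ψ.1) (blockOf M χ.1) :=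
    ⟨Finset.univ.filter fun ψ => IsInducedBlock M L (blockOf M ψ.1) (blockOf M χ.1), fun ψ => by simp⟩
  have hconj : ∀ ψ₀ ∈ S, ∀ ψ ∈ S, ∀ φ₀ φ : IrrCharacter (K.subgroupOf L),
      classInner (fun k : K.subgroupOf L => ψ₀.1 k) φ₀.1 ≠ 0 →
      classInner (fun k : K.subgroupOf L => ψ.1 k) φ.1 ≠ 0 →
      ∃ m ∈ Subgroup.normalizer ((R : Subgroup G) : Set G), ∀ k : K.subgroupOf L,
      ∀ hk : m * ((k : L) : G) * m⁻¹ ∈ L, ∀ hk' : (⟨m * ((k : L) : G) * m⁻¹, hk⟩ : L) ∈ K.subgroupOf L,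
      φ.1 k = φ₀.1 ⟨⟨m * ((k : L) : G) * m⁻¹, hk⟩, hk'⟩ := fun ψ₀ h₀ ψ h₁ φ₀ φ hφ₀ hφ =>
    constituents_conj R hM L hL habL K hKL hKr hKN hB ((hS ψ₀).1 h₀) ((hS ψ).1 h₁) hφ₀ hφ
  have hval : ∀ y ∈ R, Subgroup.centralizer ({y} : Set G) ≤ L → ∃ a : IrrCharacter L → ℂ,
      ∀ c : L, ¬ r ∣ orderOf (c : G) → (χ : G → ℂ) (y * c) = ∑ ψ ∈ S, a ψ * ψ.1 c := by
    intro y hy hC
    refine val_of_centralizer hM S hS ?_ (le_antisymm hC ?_)
    · obtain ⟨k, hk⟩ := IsPGroup.iff_orderOf.mp R.isPGroup' ⟨y, hy⟩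
      exact ⟨k, by rw [← hk, Subgroup.orderOf_mk]⟩
    · rw [hL]
      apply Subgroup.centralizer_le
      rw [Set.singleton_subset_iff]
      exact hy
  have hLn : ∀ m ∈ Subgroup.normalizer ((R : Subgroup G) : Set G), ∀ k ∈ K, m * k * m⁻¹ ∈ L :=
    fun m hm k hk => hKL (hKN m hm k hk)
  have hLN : L ≤ Subgroup.normalizer ((R : Subgroup G) : Set G) := by
    rw [hL]
    exact centralizer_le_normalizer R
  rcases S.eq_empty_or_nonempty with hSe | ⟨ψ₀, hψ₀⟩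
  · -- all values are zero
    have h0 : ∀ y ∈ R, Subgroup.centralizer ({y} : Set G) ≤ L → ∀ l ∈ L, ¬ r ∣ orderOf l →
        (χ : G → ℂ) (y * l) = 0 := by
      intro y hy hC l hl hlr
      obtain ⟨a, ha⟩ := hval y hy hC
      have h1 := ha ⟨l, hl⟩ hlr
      rw [hSe, Finset.sum_empty] at h1
      exact h1
    refine ⟨1, Core.isIrr_one, fun f _ _ y hy hC t ht k htr htk => ?_, fun y hy hC l hl hlr _ => h0 y hy hC l hl hlr⟩
    rw [h0 y hy hC t ht htr, h0 y hy hC _ (mul_mem ht (hKL k.2)) htk, mul_zero]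
  obtain ⟨φ₀, hφ₀⟩ := exists_constituent L K ψ₀
  let e : K.subgroupOf L ≃* K := Subgroup.subgroupOfEquivOfLe hKL
  have hex : ∀ (k : G) (hk : k ∈ K), extendByZero K (φ₀.1 ∘ e.symm) k =
      φ₀.1 ⟨⟨k, hKL hk⟩, Subgroup.mem_subgroupOf.2 hk⟩ := by
    intro k hk
    rw [Core.extendByZero_of_mem K _ hk]
    show φ₀.1 (e.symm ⟨k, hk⟩) = _
    congr 1
  refine ⟨φ₀.1 ∘ e.symm, Core.isIrr_comp e.symm.toMonoidHom e.symm.surjective φ₀.2, ?_, ?_⟩
  · intro f hf hfN y hy hC t ht k htr htk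
    obtain ⟨a, ha⟩ := hval y hy hC
    have e1 := ha ⟨t, ht⟩ htr
    have e2 := ha (⟨t, ht⟩ * ⟨k, hKL k.2⟩) htk
    rw [e1, Finset.mul_sum]
    refine e2.trans (Finset.sum_congr rfl fun ψ hψ => ?_)
    let k' : K.subgroupOf L := ⟨⟨k, hKL k.2⟩, Subgroup.mem_subgroupOf.2 k.2⟩
    have h1 := apply_mul_of_linear (N := K.subgroupOf L) (Core.isIrr_isCharacter ψ.2) (f.comp e.toMonoidHom)
      (fun φ hφ hne => by
        obtain ⟨m, hm, h3⟩ := hconj ψ₀ hψ₀ ψ hψ φ₀ ⟨φ, hφ⟩ hφ₀ hne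
        funext x
        have hx : m * ((x : L) : G) * m⁻¹ ∈ K := hKN m hm _ (Subgroup.mem_subgroupOf.1 x.2)
        refine (h3 x (hKL hx) (Subgroup.mem_subgroupOf.2 hx)).trans ?_
        have h4 := congrFun hf ⟨m * ((x : L) : G) * m⁻¹, hx⟩
        have h5 : (φ₀.1 ∘ e.symm) ⟨m * ((x : L) : G) * m⁻¹, hx⟩ =
            φ₀.1 ⟨⟨m * ((x : L) : G) * m⁻¹, hKL hx⟩, Subgroup.mem_subgroupOf.2 hx⟩ := by
          show φ₀.1 (e.symm _) = _
          congr 1
        rw [← h5, h4, hfN m hm ⟨((x : L) : G), Subgroup.mem_subgroupOf.1 x.2⟩ hx]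
        rfl) ⟨t, ht⟩ k'
    show a ψ * ψ.1 ((⟨t, ht⟩ : L) * (k' : L)) = f k * (a ψ * ψ.1 ⟨t, ht⟩)
    rw [h1]
    show a ψ * (f k * ψ.1 ⟨t, ht⟩) = f k * (a ψ * ψ.1 ⟨t, ht⟩)
    ring
  · intro y hy hC l hl hlr hkill
    obtain ⟨a, ha⟩ := hval y hy hC
    have e1 := ha ⟨l, hl⟩ hlr
    rw [e1]
    refine Finset.sum_eq_zero fun ψ hψ => ?_
    have h0 : ψ.1 ⟨l, hl⟩ = 0 := by
      have hlK : ∀ k ∈ K, l * k * l⁻¹ ∈ K := hKN l (hLN hl)
      have hlK' : ∀ k ∈ K, l⁻¹ * k * l ∈ K := by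
        intro k hk
        have := hKN l⁻¹ (inv_mem (hLN hl)) k hk
        rwa [inv_inv] at this
      refine eq_zero_of_constituents (N := K.subgroupOf L) (Core.isIrr_isCharacter ψ.2) ⟨l, hl⟩
        (fun k hk => Subgroup.mem_subgroupOf.2 (hlK _ (Subgroup.mem_subgroupOf.1 hk)))
        (fun k hk => Subgroup.mem_subgroupOf.2 (hlK' _ (Subgroup.mem_subgroupOf.1 hk))) ?_
      intro φ hφ hne
      obtain ⟨m, hm, h3⟩ := hconj ψ₀ hψ₀ ψ hψ φ₀ ⟨φ, hφ⟩ hφ₀ hne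
      have h4 : ∀ k : K.subgroupOf L, φ k = extendByZero K (φ₀.1 ∘ e.symm) (m * ((k : L) : G) * m⁻¹) := by
        intro k
        rw [hex _ (hKN m hm _ (Subgroup.mem_subgroupOf.1 k.2))]
        exact h3 k _ _
      rcases hkill m hm with ⟨k, hk, hkne⟩ | ⟨t, k, hlt, ht, hk, hk0⟩
      · left
        refine ⟨⟨⟨k, hKL hk⟩, Subgroup.mem_subgroupOf.2 hk⟩, ?_⟩
        rw [h4, h4]
        exact hkne
      · right
        have htL : t ∈ L := by
          have : t = l * k⁻¹ := by rw [hlt]; group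
          rw [this]
          exact mul_mem hl (inv_mem (hKL hk))
        refine ⟨⟨t, htL⟩, ⟨⟨k, hKL hk⟩, Subgroup.mem_subgroupOf.2 hk⟩, Subtype.ext hlt, ?_, ?_⟩
        · intro x hx
          exact Subtype.ext (ht _ (Subgroup.mem_subgroupOf.1 hx))
        · rw [h4]
          exact hk0
    rw [h0, mul_zero]

theorem not_dvd_orderOf_of_mem {K : Subgroup G} (hKr : ¬ r ∣ Nat.card K) {k : G} (hk : k ∈ K) : ¬ r ∣ orderOf k := by
  intro h
  apply hKr
  refine dvd_trans h ?_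
  have h1 := orderOf_dvd_natCard (⟨k, hk⟩ : K)
  rwa [Subgroup.orderOf_mk] at h1

/-- **The alternative**, `K` perfect or not: `φ = 1` gives constancy. -/
theorem kconst_or (R : Sylow r G)
    (hab : (R : Subgroup G) ≤ Subgroup.centralizer ((R : Subgroup G) : Set G))
    (K : Subgroup G) (hKC : K ≤ Subgroup.centralizer ((R : Subgroup G) : Set G))
    (hKr : ¬ r ∣ Nat.card K)
    (hKN : ∀ n ∈ Subgroup.normalizer ((R : Subgroup G) : Set G), ∀ k ∈ K, n * k * n⁻¹ ∈ K)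
    (χ : IrrCharacter G) :
    (∀ y ∈ R, Subgroup.centralizer ({y} : Set G) ≤ Subgroup.centralizer ((R : Subgroup G) : Set G) →
      ∀ k ∈ K, (χ : G → ℂ) (y * k) = (χ : G → ℂ) y) ∨
    ∃ φ : K → ℂ, IsIrrCharacter K φ ∧ (∃ k, φ k ≠ 1) ∧
      ∀ y ∈ R, Subgroup.centralizer ({y} : Set G) ≤ Subgroup.centralizer ((R : Subgroup G) : Set G) →
        ∀ l ∈ Subgroup.centralizer ((R : Subgroup G) : Set G), ¬ r ∣ orderOf l →
          (∀ n ∈ Subgroup.normalizer ((R : Subgroup G) : Set G), Kill K φ n l) → (χ : G → ℂ) (y * l) = 0 := by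
  obtain ⟨φ, hφ, h1, h2⟩ := exists_phi R hab K hKC hKr hKN χ
  by_cases h : ∃ k, φ k ≠ 1
  · exact Or.inr ⟨φ, hφ, h, h2⟩
  push Not at h
  left
  intro y hy hC k hk
  have h3 := h1 1 (funext fun k => by rw [h k]; rfl) (fun _ _ _ _ => rfl) y hy hC 1 (one_mem _) ⟨k, hk⟩
    (by rw [orderOf_one]; exact (Fact.out : r.Prime).not_dvd_one)
    (by rw [one_mul]; exact not_dvd_orderOf_of_mem hKr hk)
  simpa using h3

omit [Fintype G] in
/-- Conjugate products have conjugate `r`-parts and `r'`-parts. -/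
theorem conj_parts {z z' k k' c : G} (hz : ∃ a : ℕ, orderOf z = r ^ a) (hz' : ∃ a : ℕ, orderOf z' = r ^ a)
    (hk : ¬ r ∣ orderOf k) (hk' : ¬ r ∣ orderOf k') (hc : Commute z k) (hc' : Commute z' k')
    (h : c * (z * k) * c⁻¹ = z' * k') : c * z * c⁻¹ = z' ∧ c * k * c⁻¹ = k' := by
  have hr : r.Prime := Fact.out
  obtain ⟨a, ha⟩ := hz
  obtain ⟨b, hb⟩ := hz'
  have hcop : Nat.Coprime (r ^ (a + b)) (orderOf k * orderOf k') := by
    refine Nat.Coprime.pow_left _ ((Nat.Prime.coprime_iff_not_dvd hr).2 fun hd => ?_)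
    rcases (Nat.Prime.dvd_mul hr).1 hd with h1 | h1
    · exact hk h1
    · exact hk' h1
  obtain ⟨t, ht1, ht2⟩ := Nat.chineseRemainder hcop 1 0
  have key : ∀ {x y : G}, Commute x y → orderOf x ∣ r ^ (a + b) → orderOf y ∣ orderOf k * orderOf k' →
      (x * y) ^ t = x := by
    intro x y hxy hx hy
    rw [hxy.mul_pow]
    have a1 : x ^ t = x := by
      conv_rhs => rw [← pow_one x]
      exact pow_eq_pow_iff_modEq.2 (ht1.of_dvd hx)
    have a2 : y ^ t = 1 := by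
      rw [← orderOf_dvd_iff_pow_eq_one]
      exact hy.trans ((Nat.modEq_zero_iff_dvd).1 ht2)
    rw [a1, a2, mul_one]
  have e1 := key hc (ha ▸ pow_dvd_pow r (Nat.le_add_right a b)) (Dvd.intro _ rfl)
  have e2 := key hc' (hb ▸ pow_dvd_pow r (Nat.le_add_left b a)) (Dvd.intro_left _ rfl)
  have h1 : c * z * c⁻¹ = z' := by
    calc c * z * c⁻¹ = c * (z * k) ^ t * c⁻¹ := by rw [e1]
      _ = (c * (z * k) * c⁻¹) ^ t := by rw [conj_pow]
      _ = z' := by rw [h, e2]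
  refine ⟨h1, ?_⟩
  have h2 : c * (z * k) * c⁻¹ = (c * z * c⁻¹) * (c * k * c⁻¹) := by group
  rw [h2, h1] at h
  exact mul_left_cancel h

/-- `n` acts on `K` as an inner automorphism -/
def Inner (K : Subgroup G) (n : G) : Prop := ∃ c ∈ K, ∀ k ∈ K, n * k * n⁻¹ = c * k * c⁻¹

/-- two different classes of `R K`: an element outside `K` centralizing `K` and `R`, or two classes in `R` -/
def Sep (R : Sylow r G) (K : Subgroup G) (y : G) : Prop :=
  (∃ t ∈ Subgroup.centralizer ((R : Subgroup G) : Set G), (∀ x ∈ K, t * x = x * t) ∧ t ∉ K ∧ ¬ r ∣ orderOf t) ∨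
    ∃ y' ∈ R, Subgroup.centralizer ({y'} : Set G) ≤ Subgroup.centralizer ((R : Subgroup G) : Set G) ∧
      ¬ IsConj y y'

section Main

variable (R : Sylow r G) {y : G}

theorem rpow_of_mem {y : G} (hy : y ∈ R) : ∃ a : ℕ, orderOf y = r ^ a := by
  obtain ⟨k, hk⟩ := IsPGroup.iff_orderOf.mp R.isPGroup' ⟨y, hy⟩
  exact ⟨k, by rw [← hk, Subgroup.orderOf_mk]⟩

omit [Fintype G] in
theorem not_dvd_orderOf_mul {t k : G} (h : t * k = k * t) (ht : ¬ r ∣ orderOf t) (hk : ¬ r ∣ orderOf k) :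
    ¬ r ∣ orderOf (t * k) := by
  intro hd
  have h1 : orderOf (t * k) ∣ orderOf t * orderOf k :=
    (Commute.orderOf_mul_dvd_mul_orderOf (show Commute t k from h))
  rcases (Nat.Prime.dvd_mul Fact.out).1 (hd.trans h1) with h2 | h2
  · exact ht h2
  · exact hk h2

/-- the `r`-part and the `r'`-part of an element of `C_G(R)` -/
theorem exists_parts {l : G} (hl : l ∈ Subgroup.centralizer ((R : Subgroup G) : Set G)) :
    ∃ l₁ l₂ : G, l = l₁ * l₂ ∧ l₂ ∈ Subgroup.centralizer ((R : Subgroup G) : Set G) ∧ l₁ ∈ R ∧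
      ¬ r ∣ orderOf l₂ := by
  have hr : r.Prime := Fact.out
  have ho : orderOf l ≠ 0 := (orderOf_pos l).ne'
  obtain ⟨a, m, hm, hlm⟩ := Nat.exists_eq_pow_mul_and_not_dvd ho r hr.ne_one
  have hcop : Nat.Coprime (r ^ a) m := Nat.Coprime.pow_left _ ((Nat.Prime.coprime_iff_not_dvd hr).2 hm)
  obtain ⟨j, hj1, hj2⟩ := Nat.chineseRemainder hcop 0 1
  have h1 : (l ^ j) ^ m = 1 := by
    rw [← pow_mul, ← orderOf_dvd_iff_pow_eq_one, hlm]
    exact Nat.mul_dvd_mul_right ((Nat.modEq_zero_iff_dvd).1 hj1) m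
  have h2 : (l * (l ^ j)⁻¹) ^ (r ^ a) = 1 := by
    have hcm : Commute l (l ^ j)⁻¹ := ((Commute.refl l).pow_right j).inv_right
    rw [hcm.mul_pow, inv_pow, mul_inv_eq_one, ← pow_mul]
    rw [pow_eq_pow_iff_modEq, hlm]
    have h3 := (hj2.mul_left' (r ^ a)).symm
    rw [mul_one] at h3
    rwa [mul_comm j]
  refine ⟨l * (l ^ j)⁻¹, l ^ j, by group, pow_mem hl j, ?_, ?_⟩
  · have hP : IsPGroup r (Subgroup.zpowers (l * (l ^ j)⁻¹)) := by
      have h3 : orderOf (l * (l ^ j)⁻¹) ∣ r ^ a := orderOf_dvd_of_pow_eq_one h2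
      obtain ⟨b, -, hb⟩ := (Nat.dvd_prime_pow hr).1 h3
      exact IsPGroup.of_card (n := b) (by rw [Nat.card_zpowers, hb])
    have h3 := hP.inf_normalizer_sylow R
    have h4 : l * (l ^ j)⁻¹ ∈ Subgroup.normalizer ((R : Subgroup G) : Set G) :=
      centralizer_le_normalizer R (mul_mem hl (inv_mem (pow_mem hl j)))
    have h5 : l * (l ^ j)⁻¹ ∈ Subgroup.zpowers (l * (l ^ j)⁻¹) ⊓ Subgroup.normalizer ((R : Subgroup G) : Set G) :=
      ⟨Subgroup.mem_zpowers _, h4⟩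
    exact (h3.le h5).2
  · intro hd
    exact hm (hd.trans (orderOf_dvd_of_pow_eq_one h1))

/-- the end of the arguments with a common zero `k₀` -/
theorem false_of_zero (hy : y ∈ R)
    (hC : Subgroup.centralizer ({y} : Set G) ≤ Subgroup.centralizer ((R : Subgroup G) : Set G))
    (K : Subgroup G) (hKC : K ≤ Subgroup.centralizer ((R : Subgroup G) : Set G))
    (hKr : ¬ r ∣ Nat.card K)
    (hKN : ∀ n ∈ Subgroup.normalizer ((R : Subgroup G) : Set G), ∀ k ∈ K, n * k * n⁻¹ ∈ K)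
    (hsep : Sep R K y) {χ : G → ℂ} (hO : H730.OZ.OneZero χ) {φ : K → ℂ}
    (h : ∀ y ∈ R, Subgroup.centralizer ({y} : Set G) ≤ Subgroup.centralizer ((R : Subgroup G) : Set G) →
        ∀ l ∈ Subgroup.centralizer ((R : Subgroup G) : Set G), ¬ r ∣ orderOf l →
          (∀ n ∈ Subgroup.normalizer ((R : Subgroup G) : Set G), Kill K φ n l) → χ (y * l) = 0)
    {k₀ : G} (hk₀ : k₀ ∈ K)
    (hz : ∀ n ∈ Subgroup.normalizer ((R : Subgroup G) : Set G), extendByZero K φ (n * k₀ * n⁻¹) = 0) : False := by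
  have hkr : ¬ r ∣ orderOf k₀ := by
    intro h
    apply hKr
    refine dvd_trans h ?_
    have h1 := orderOf_dvd_natCard (⟨k₀, hk₀⟩ : K)
    rwa [Subgroup.orderOf_mk] at h1
  have hcR : ∀ {y c : G}, y ∈ R → c ∈ Subgroup.centralizer ((R : Subgroup G) : Set G) → Commute y c :=
    fun {y c} hy hc => Subgroup.mem_centralizer_iff.1 hc _ hy
  obtain ⟨x, hx, hx'⟩ := hO
  have h1 : χ (y * k₀) = 0 := h y hy hC k₀ (hKC hk₀) hkr fun n hn =>
    Or.inr ⟨1, k₀, by rw [one_mul], fun x _ => by rw [one_mul, mul_one], hk₀, hz n hn⟩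
  rcases hsep with ⟨t, ht, htK, htn, htr⟩ | ⟨y', hy', hC', hne⟩
  · have htk : ¬ r ∣ orderOf (t * k₀) := not_dvd_orderOf_mul (htK k₀ hk₀) htr hkr
    have h2 : χ (y * (t * k₀)) = 0 := h y hy hC (t * k₀) (mul_mem ht (hKC hk₀)) htk fun n hn =>
      Or.inr ⟨t, k₀, rfl, htK, hk₀, hz n hn⟩
    obtain ⟨c, hc⟩ := isConj_iff.1 ((hx' _ h1).symm.trans (hx' _ h2))
    obtain ⟨e1, e2⟩ := conj_parts (rpow_of_mem R hy) (rpow_of_mem R hy) hkr htk (hcR hy (hKC hk₀))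
      (hcR hy (mul_mem ht (hKC hk₀))) hc
    have hcC : c ∈ Subgroup.centralizer ({y} : Set G) := by
      rw [Subgroup.mem_centralizer_singleton_iff]
      rw [mul_inv_eq_iff_eq_mul] at e1
      exact e1
    have h3 := hKN c (centralizer_le_normalizer R (hC hcC)) k₀ hk₀
    rw [e2] at h3
    exact htn ((K.mul_mem_cancel_right hk₀).1 h3)
  · have h2 : χ (y' * k₀) = 0 := h y' hy' hC' k₀ (hKC hk₀) hkr fun n hn =>
      Or.inr ⟨1, k₀, by rw [one_mul], fun x _ => by rw [one_mul, mul_one], hk₀, hz n hn⟩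
    obtain ⟨c, hc⟩ := isConj_iff.1 ((hx' _ h1).symm.trans (hx' _ h2))
    obtain ⟨e1, -⟩ := conj_parts (rpow_of_mem R hy) (rpow_of_mem R hy') hkr hkr (hcR hy (hKC hk₀))
      (hcR hy' (hKC hk₀)) hc
    exact hne (isConj_iff.2 ⟨c, e1⟩)

/-! ### The alternatives, without hypothesis on the zeros of `χ` -/

/-- **(C)** `K` normalized by `N_G(R)`; every irreducible character `φ ≠ 1` of `K` has a zero common to its
`N_G(R)`-conjugates. -/
theorem alt_zero (hab : (R : Subgroup G) ≤ Subgroup.centralizer ((R : Subgroup G) : Set G))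
    (K : Subgroup G) (hKC : K ≤ Subgroup.centralizer ((R : Subgroup G) : Set G))
    (hKr : ¬ r ∣ Nat.card K)
    (hKN : ∀ n ∈ Subgroup.normalizer ((R : Subgroup G) : Set G), ∀ k ∈ K, n * k * n⁻¹ ∈ K)
    (hZ : ∀ φ : K → ℂ, IsIrrCharacter K φ → (∃ k, φ k ≠ 1) → ∃ k : K,
      ∀ n ∈ Subgroup.normalizer ((R : Subgroup G) : Set G), ∀ h : n * (k : G) * n⁻¹ ∈ K,
        φ ⟨n * (k : G) * n⁻¹, h⟩ = 0) (χ : IrrCharacter G) :
    (∀ y ∈ R, Subgroup.centralizer ({y} : Set G) ≤ Subgroup.centralizer ((R : Subgroup G) : Set G) →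
      ∀ k ∈ K, (χ : G → ℂ) (y * k) = (χ : G → ℂ) y) ∨
    ∃ k₀ ∈ K, ∀ y ∈ R, Subgroup.centralizer ({y} : Set G) ≤ Subgroup.centralizer ((R : Subgroup G) : Set G) →
      ∀ t ∈ Subgroup.centralizer ((R : Subgroup G) : Set G), (∀ x ∈ K, t * x = x * t) → ¬ r ∣ orderOf t →
        (χ : G → ℂ) (y * t * k₀) = 0 := by
  rcases kconst_or R hab K hKC hKr hKN χ with h | ⟨φ, hφ, hφ1, h⟩
  · exact Or.inl h
  · right
    obtain ⟨k₀, hk₀⟩ := hZ φ hφ hφ1
    refine ⟨k₀, k₀.2, fun y hy hC t ht htK htr => ?_⟩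
    rw [mul_assoc]
    refine h y hy hC (t * k₀) (mul_mem ht (hKC k₀.2))
      (not_dvd_orderOf_mul (htK k₀ k₀.2) htr (not_dvd_orderOf_of_mem hKr k₀.2)) fun n hn =>
      Or.inr ⟨t, k₀, rfl, htK, k₀.2, ?_⟩
    rw [Core.extendByZero_of_mem K _ (hKN n hn _ k₀.2)]
    exact hk₀ n hn _

/-- an irreducible character is linear or has a zero -/
theorem linear_or_zero {K : Type u} [Group K] [Finite K] {φ : K → ℂ} (hφ : IsIrrCharacter K φ) :
    (∃ f : K →* ℂˣ, φ = fun k => (f k : ℂ)) ∨ ∃ k, φ k = 0 := by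
  obtain ⟨d, hd0, hd⟩ := Core.isIrr_apply_one hφ
  by_cases hd1 : d = 1
  · left
    exact Linear.exists_hom_of_isIrrCharacter hφ (by rw [hd, hd1, Nat.cast_one])
  · right
    obtain ⟨n, ρ, hρ, rfl⟩ := hφ
    obtain ⟨g, hg⟩ := Cfsg.Agent.S0191.result ρ (by
      have h2 : ρ.character 1 = (Module.finrank ℂ (Fin n → ℂ) : ℂ) := ρ.char_one
      rw [h2] at hd
      have h3 : Module.finrank ℂ (Fin n → ℂ) = d := by exact_mod_cast hd
      rw [h3]
      omega)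
    exact ⟨g, hg⟩

/-- **(A)** `N_G(R)` acts on `K` by inner automorphisms. -/
theorem alt_inner (hab : (R : Subgroup G) ≤ Subgroup.centralizer ((R : Subgroup G) : Set G))
    (K : Subgroup G) (hKC : K ≤ Subgroup.centralizer ((R : Subgroup G) : Set G))
    (hKr : ¬ r ∣ Nat.card K)
    (hKN : ∀ n ∈ Subgroup.normalizer ((R : Subgroup G) : Set G), ∃ c ∈ K, ∀ k ∈ K, n * k * n⁻¹ = c * k * c⁻¹)
    (χ : IrrCharacter G) :
    (∃ f : K →* ℂˣ, ∀ y ∈ R,
      Subgroup.centralizer ({y} : Set G) ≤ Subgroup.centralizer ((R : Subgroup G) : Set G) →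
      ∀ k : K, (χ : G → ℂ) (y * k) = f k * (χ : G → ℂ) y) ∨
    ∃ k₀ ∈ K, ∀ y ∈ R, Subgroup.centralizer ({y} : Set G) ≤ Subgroup.centralizer ((R : Subgroup G) : Set G) →
      ∀ t ∈ Subgroup.centralizer ((R : Subgroup G) : Set G), (∀ x ∈ K, t * x = x * t) → ¬ r ∣ orderOf t →
        (χ : G → ℂ) (y * t * k₀) = 0 := by
  have hKN' : ∀ n ∈ Subgroup.normalizer ((R : Subgroup G) : Set G), ∀ k ∈ K, n * k * n⁻¹ ∈ K := by
    intro n hn k hk
    obtain ⟨c, hc, h1⟩ := hKN n hn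
    rw [h1 k hk]
    exact mul_mem (mul_mem hc hk) (inv_mem hc)
  obtain ⟨φ, hφ, h1, h2⟩ := exists_phi R hab K hKC hKr hKN' χ
  rcases linear_or_zero hφ with ⟨f, hf⟩ | ⟨k₀, hk₀⟩
  · left
    refine ⟨f, fun y hy hC k => ?_⟩
    have h3 := h1 f hf (fun n hn k hk => by
      obtain ⟨c, hc, h4⟩ := hKN n hn
      have h5 : (⟨n * (k : G) * n⁻¹, hk⟩ : K) = ⟨c, hc⟩ * k * ⟨c, hc⟩⁻¹ := Subtype.ext (h4 k k.2)
      rw [h5, map_mul, map_mul, map_inv, mul_comm (f ⟨c, hc⟩), mul_inv_cancel_right]) y hy hC 1 (one_mem _) k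
      (by rw [orderOf_one]; exact (Fact.out : r.Prime).not_dvd_one)
      (by rw [one_mul]; exact not_dvd_orderOf_of_mem hKr k.2)
    simpa using h3
  · right
    refine ⟨k₀, k₀.2, fun y hy hC t ht htK htr => ?_⟩
    rw [mul_assoc]
    refine h2 y hy hC (t * k₀) (mul_mem ht (hKC k₀.2))
      (not_dvd_orderOf_mul (htK k₀ k₀.2) htr (not_dvd_orderOf_of_mem hKr k₀.2)) fun n hn =>
      Or.inr ⟨t, k₀, rfl, htK, k₀.2, ?_⟩
    obtain ⟨c, hc, h4⟩ := hKN n hn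
    rw [Core.extendByZero_of_mem K _ (hKN' n hn _ k₀.2)]
    have h5 : (⟨n * (k₀ : G) * n⁻¹, hKN' n hn _ k₀.2⟩ : K) = ⟨c, hc⟩ * k₀ * ⟨c, hc⟩⁻¹ := Subtype.ext (h4 k₀ k₀.2)
    rw [h5, irr_conj hφ, hk₀]

/-- **(A)**, `K` perfect. -/
theorem alt_inner_perfect (hab : (R : Subgroup G) ≤ Subgroup.centralizer ((R : Subgroup G) : Set G))
    (K : Subgroup G) (hKC : K ≤ Subgroup.centralizer ((R : Subgroup G) : Set G))
    (hKr : ¬ r ∣ Nat.card K) (hKp : commutator K = ⊤)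
    (hKN : ∀ n ∈ Subgroup.normalizer ((R : Subgroup G) : Set G), ∃ c ∈ K, ∀ k ∈ K, n * k * n⁻¹ = c * k * c⁻¹)
    (χ : IrrCharacter G) :
    (∀ y ∈ R, Subgroup.centralizer ({y} : Set G) ≤ Subgroup.centralizer ((R : Subgroup G) : Set G) →
      ∀ k ∈ K, (χ : G → ℂ) (y * k) = (χ : G → ℂ) y) ∨
    ∃ k₀ ∈ K, ∀ y ∈ R, Subgroup.centralizer ({y} : Set G) ≤ Subgroup.centralizer ((R : Subgroup G) : Set G) →
      ∀ t ∈ Subgroup.centralizer ((R : Subgroup G) : Set G), (∀ x ∈ K, t * x = x * t) → ¬ r ∣ orderOf t →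
        (χ : G → ℂ) (y * t * k₀) = 0 := by
  rcases alt_inner R hab K hKC hKr hKN χ with ⟨f, hf⟩ | h
  · left
    intro y hy hC k hk
    have h1 := hf y hy hC ⟨k, hk⟩
    have h2 : f ⟨k, hk⟩ = 1 := by
      have h3 : commutator K ≤ f.ker := Abelianization.commutator_subset_ker f
      rw [hKp] at h3
      exact h3 (Subgroup.mem_top _)
    rw [h2, Units.val_one, one_mul] at h1
    exact h1
  · exact Or.inr h

/-- **(B)** `N_G(R)` acts on `K` by inner automorphisms and by `d` times inner automorphisms, `d ∈ C_G(R)`;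
`C_G(R) = L₀ ∪ d L₀`, `L₀` acts by inner automorphisms. -/
theorem alt_two (hab : (R : Subgroup G) ≤ Subgroup.centralizer ((R : Subgroup G) : Set G))
    (K : Subgroup G) (hKC : K ≤ Subgroup.centralizer ((R : Subgroup G) : Set G))
    (hKr : ¬ r ∣ Nat.card K) (L₀ : Subgroup G)
    (h0 : ∀ l ∈ L₀, ∃ c ∈ K, ∀ k ∈ K, l * k * l⁻¹ = c * k * c⁻¹) {d : G}
    (hd : d ∈ Subgroup.centralizer ((R : Subgroup G) : Set G))
    (hdK : ∀ n ∈ Subgroup.normalizer ((R : Subgroup G) : Set G), ∃ c ∈ K,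
      (∀ k ∈ K, n * k * n⁻¹ = c * k * c⁻¹) ∨ ∀ k ∈ K, n * k * n⁻¹ = d * (c * k * c⁻¹) * d⁻¹)
    (hL : ∀ l ∈ Subgroup.centralizer ((R : Subgroup G) : Set G), l ∈ L₀ ∨ ∃ m ∈ L₀, l = d * m)
    (hKN : ∀ n ∈ Subgroup.normalizer ((R : Subgroup G) : Set G), ∀ k ∈ K, n * k * n⁻¹ ∈ K)
    (χ : IrrCharacter G) :
    (∃ f : K →* ℂˣ, ∀ y ∈ R,
      Subgroup.centralizer ({y} : Set G) ≤ Subgroup.centralizer ((R : Subgroup G) : Set G) →
      ∀ k : K, (χ : G → ℂ) (y * k) = f k * (χ : G → ℂ) y) ∨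
    (∃ k₀ ∈ K, ∀ y ∈ R, Subgroup.centralizer ({y} : Set G) ≤ Subgroup.centralizer ((R : Subgroup G) : Set G) →
      ∀ t ∈ Subgroup.centralizer ((R : Subgroup G) : Set G), (∀ x ∈ K, t * x = x * t) → ¬ r ∣ orderOf t →
        (χ : G → ℂ) (y * t * k₀) = 0) ∨
    ∀ y ∈ R, Subgroup.centralizer ({y} : Set G) ≤ Subgroup.centralizer ((R : Subgroup G) : Set G) →
      ∀ l ∈ Subgroup.centralizer ((R : Subgroup G) : Set G), l ∉ L₀ → ¬ r ∣ orderOf l →
        (χ : G → ℂ) (y * l) = 0 := by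
  obtain ⟨φ, hφ, h1, h2⟩ := exists_phi R hab K hKC hKr hKN χ
  set F : G → ℂ := extendByZero K φ with hF
  have hex : ∀ (k : G) (hk : k ∈ K), F k = φ ⟨k, hk⟩ := fun k hk => Core.extendByZero_of_mem K _ hk
  have hcl : ∀ c ∈ K, ∀ k ∈ K, F (c * k * c⁻¹) = F k := by
    intro c hc k hk
    rw [hex _ (mul_mem (mul_mem hc hk) (inv_mem hc)), hex _ hk]
    exact irr_conj hφ ⟨k, hk⟩ ⟨c, hc⟩
  have hdKK : ∀ k ∈ K, d * k * d⁻¹ ∈ K := hKN d (centralizer_le_normalizer R hd)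
  have hcK : ∀ c ∈ K, ∀ k ∈ K, c * k * c⁻¹ ∈ K := fun c hc k hk => mul_mem (mul_mem hc hk) (inv_mem hc)
  by_cases hinv : ∀ k ∈ K, F (d * k * d⁻¹) = F k
  · -- `φ` is `N_G(R)`-invariant
    have hN : ∀ n ∈ Subgroup.normalizer ((R : Subgroup G) : Set G), ∀ k ∈ K, F (n * k * n⁻¹) = F k := by
      intro n hn k hk
      obtain ⟨c, hc, h3 | h3⟩ := hdK n hn
      · rw [h3 k hk, hcl c hc k hk]
      · rw [h3 k hk, hinv _ (hcK c hc k hk), hcl c hc k hk]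
    rcases linear_or_zero hφ with ⟨f, hf⟩ | ⟨k₀, hk₀⟩
    · left
      refine ⟨f, fun y hy hC k => ?_⟩
      have h3 := h1 f hf (fun n hn k hk => by
        have h4 := hN n hn k k.2
        rw [hex _ hk, hex _ k.2, hf] at h4
        exact Units.ext h4) y hy hC 1 (one_mem _) k
        (by rw [orderOf_one]; exact (Fact.out : r.Prime).not_dvd_one)
        (by rw [one_mul]; exact not_dvd_orderOf_of_mem hKr k.2)
      simpa using h3
    · right; left
      refine ⟨k₀, k₀.2, fun y hy hC t ht htK htr => ?_⟩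
      rw [mul_assoc]
      refine h2 y hy hC (t * k₀) (mul_mem ht (hKC k₀.2))
        (not_dvd_orderOf_mul (htK k₀ k₀.2) htr (not_dvd_orderOf_of_mem hKr k₀.2)) fun n hn =>
        Or.inr ⟨t, k₀, rfl, htK, k₀.2, ?_⟩
      rw [← hF, hN n hn _ k₀.2, hex _ k₀.2]
      exact hk₀
  · right; right
    push Not at hinv
    obtain ⟨k₁, hk₁, hne⟩ := hinv
    intro y hy hC l hl hlL hlr
    refine h2 y hy hC l hl hlr fun n hn => Or.inl ?_
    rw [← hF]
    by_contra hcon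
    push Not at hcon
    obtain ⟨m, hm, rfl⟩ : ∃ m ∈ L₀, l = d * m := (hL l hl).resolve_left hlL
    obtain ⟨c₀, hc₀, hmc⟩ := h0 m hm
    have hlk : ∀ k ∈ K, d * m * k * (d * m)⁻¹ = d * (c₀ * k * c₀⁻¹) * d⁻¹ := by
      intro k hk
      rw [← hmc k hk]
      group
    obtain ⟨c, hc, h3 | h3⟩ := hdK n hn
    · -- `n` inner
      have h4 := hcon (c₀⁻¹ * k₁ * c₀) (by
        have := hcK c₀⁻¹ (inv_mem hc₀) k₁ hk₁
        rwa [inv_inv] at this)
      have hk₁' : c₀⁻¹ * k₁ * c₀ ∈ K := by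
        have := hcK c₀⁻¹ (inv_mem hc₀) k₁ hk₁
        rwa [inv_inv] at this
      rw [hlk _ hk₁'] at h4
      have e1 : c₀ * (c₀⁻¹ * k₁ * c₀) * c₀⁻¹ = k₁ := by group
      rw [e1, h3 _ (hdKK k₁ hk₁), h3 _ hk₁', hcl c hc _ (hdKK k₁ hk₁), hcl c hc _ hk₁'] at h4
      apply hne
      rw [h4]
      have := hcl c₀⁻¹ (inv_mem hc₀) k₁ hk₁
      rwa [inv_inv] at this
    · -- `n` acts as `d c`
      have hG : ∀ c ∈ K, ∀ k ∈ K, F (d * (c * k * c⁻¹) * d⁻¹) = F (d * k * d⁻¹) := by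
        intro c hc k hk
        have e1 : d * (c * k * c⁻¹) * d⁻¹ = (d * c * d⁻¹) * (d * k * d⁻¹) * (d * c * d⁻¹)⁻¹ := by group
        rw [e1, hcl _ (hdKK c hc) _ (hdKK k hk)]
      -- every `x ∈ K`
      have h4 : ∀ x ∈ K, F (d * x * d⁻¹) = F x := by
        intro x hx
        have hdi : ∀ k ∈ K, d⁻¹ * k * d ∈ K := by
          intro k hk
          have := hKN d⁻¹ (inv_mem (centralizer_le_normalizer R hd)) k hk
          rwa [inv_inv] at this
        set k := c₀⁻¹ * (d⁻¹ * x * d) * c₀ with hk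
        have hkK : k ∈ K := by
          have := hcK c₀⁻¹ (inv_mem hc₀) _ (hdi x hx)
          rwa [inv_inv] at this
        have h5 := hcon k hkK
        have e1 : c₀ * k * c₀⁻¹ = d⁻¹ * x * d := by rw [hk]; group
        have e2 : d * (d⁻¹ * x * d) * d⁻¹ = x := by group
        rw [hlk k hkK, e1, e2, h3 x hx, h3 k hkK, hG c hc x hx, hG c hc k hkK] at h5
        rw [h5, hk]
        have h6 := hG c₀⁻¹ (inv_mem hc₀) (d⁻¹ * x * d) (hdi x hx)
        rw [inv_inv, e2] at h6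
        exact h6
      exact hne (h4 k₁ hk₁)

/-! ### Characters with one class of zeros -/

/-- **(C)** Constancy on `y K` of a character with one class of zeros; every nonprincipal irreducible character of
`K` has a zero common to its `N_G(R)`-conjugates. -/
theorem kconst_one (hab : (R : Subgroup G) ≤ Subgroup.centralizer ((R : Subgroup G) : Set G))
    (hy : y ∈ R)
    (hC : Subgroup.centralizer ({y} : Set G) ≤ Subgroup.centralizer ((R : Subgroup G) : Set G))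
    (K : Subgroup G) (hKC : K ≤ Subgroup.centralizer ((R : Subgroup G) : Set G))
    (hKr : ¬ r ∣ Nat.card K)
    (hKN : ∀ n ∈ Subgroup.normalizer ((R : Subgroup G) : Set G), ∀ k ∈ K, n * k * n⁻¹ ∈ K)
    (hZ : ∀ φ : K → ℂ, IsIrrCharacter K φ → (∃ k, φ k ≠ 1) → ∃ k : K,
      ∀ n ∈ Subgroup.normalizer ((R : Subgroup G) : Set G), ∀ h : n * (k : G) * n⁻¹ ∈ K,
        φ ⟨n * (k : G) * n⁻¹, h⟩ = 0)
    (hsep : Sep R K y) (χ : IrrCharacter G) (hO : H730.OZ.OneZero (χ : G → ℂ)) :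
    ∀ k ∈ K, (χ : G → ℂ) (y * k) = (χ : G → ℂ) y := by
  rcases kconst_or R hab K hKC hKr hKN χ with h | ⟨φ, hφ, hφ1, h⟩
  · exact h y hy hC
  · exfalso
    obtain ⟨k₀, hk₀⟩ := hZ φ hφ hφ1
    refine false_of_zero R hy hC K hKC hKr hKN hsep hO h k₀.2 fun n hn => ?_
    rw [Core.extendByZero_of_mem K _ (hKN n hn _ k₀.2)]
    exact hk₀ n hn _

/-- **(A)** `K` perfect, `N_G(R)` acts on `K` by inner automorphisms. -/
theorem kconst_one_inner (hab : (R : Subgroup G) ≤ Subgroup.centralizer ((R : Subgroup G) : Set G))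
    (hy : y ∈ R)
    (hC : Subgroup.centralizer ({y} : Set G) ≤ Subgroup.centralizer ((R : Subgroup G) : Set G))
    (K : Subgroup G) (hKC : K ≤ Subgroup.centralizer ((R : Subgroup G) : Set G))
    (hKr : ¬ r ∣ Nat.card K) (hKp : commutator K = ⊤)
    (hKN : ∀ n ∈ Subgroup.normalizer ((R : Subgroup G) : Set G), Inner K n)
    (hsep : Sep R K y) (χ : IrrCharacter G) (hO : H730.OZ.OneZero (χ : G → ℂ)) :
    ∀ k ∈ K, (χ : G → ℂ) (y * k) = (χ : G → ℂ) y := by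
  refine kconst_one R hab hy hC K hKC hKr ?_ ?_ hsep χ hO
  · intro n hn k hk
    obtain ⟨c, hc, h1⟩ := hKN n hn
    rw [h1 k hk]
    exact mul_mem (mul_mem hc hk) (inv_mem hc)
  · intro φ hφ h1
    obtain ⟨k, hk⟩ := exists_zero_of_perfect hKp hφ h1
    refine ⟨k, fun n hn h => ?_⟩
    obtain ⟨c, hc, h2⟩ := hKN n hn
    have h3 : (⟨n * (k : G) * n⁻¹, h⟩ : K) = ⟨c, hc⟩ * k * ⟨c, hc⟩⁻¹ := Subtype.ext (h2 k k.2)
    rw [h3, irr_conj hφ, hk]

/-- **(B)** `K` perfect, `N_G(R)` and `C_G(R)` induce on `K` the same group `A` with `|A : Inn K| = 2`. -/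
theorem kconst_one_two (hab : (R : Subgroup G) ≤ Subgroup.centralizer ((R : Subgroup G) : Set G))
    (hy : y ∈ R)
    (hC : Subgroup.centralizer ({y} : Set G) ≤ Subgroup.centralizer ((R : Subgroup G) : Set G))
    (K : Subgroup G) (hKC : K ≤ Subgroup.centralizer ((R : Subgroup G) : Set G))
    (hKr : ¬ r ∣ Nat.card K) (hKp : commutator K = ⊤)
    (hKN : ∀ n ∈ Subgroup.normalizer ((R : Subgroup G) : Set G), ∀ k ∈ K, n * k * n⁻¹ ∈ K)
    (hidx : ∀ n ∈ Subgroup.normalizer ((R : Subgroup G) : Set G),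
      ∀ n' ∈ Subgroup.normalizer ((R : Subgroup G) : Set G), ¬ Inner K n → ¬ Inner K n' → Inner K (n⁻¹ * n'))
    (hsep : Sep R K y)
    (hl : (∃ l ∈ Subgroup.centralizer ((R : Subgroup G) : Set G), ∃ l' ∈ Subgroup.centralizer ((R : Subgroup G) : Set G),
        ¬ r ∣ orderOf l ∧ ¬ r ∣ orderOf l' ∧ ¬ Inner K l ∧ ¬ Inner K l' ∧
        ∀ g ∈ Subgroup.centralizer ((R : Subgroup G) : Set G), g * l * g⁻¹ ≠ l') ∨
      ((∃ l ∈ Subgroup.centralizer ((R : Subgroup G) : Set G), ¬ Inner K l) ∧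
        ∃ y' ∈ R, Subgroup.centralizer ({y'} : Set G) ≤ Subgroup.centralizer ((R : Subgroup G) : Set G) ∧
          ¬ IsConj y y'))
    (χ : IrrCharacter G) (hO : H730.OZ.OneZero (χ : G → ℂ)) :
    ∀ k ∈ K, (χ : G → ℂ) (y * k) = (χ : G → ℂ) y := by
  rcases kconst_or R hab K hKC hKr hKN χ with h | ⟨φ, hφ, hφ1, h⟩
  · exact h y hy hC
  exfalso
  have hex : ∀ (k : G) (hk : k ∈ K), extendByZero K φ k = φ ⟨k, hk⟩ := fun k hk =>
    Core.extendByZero_of_mem K _ hk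
  by_cases hinv : ∀ n ∈ Subgroup.normalizer ((R : Subgroup G) : Set G), ∀ k ∈ K,
      extendByZero K φ (n * k * n⁻¹) = extendByZero K φ k
  · obtain ⟨k₀, hk₀⟩ := exists_zero_of_perfect hKp hφ hφ1
    refine false_of_zero R hy hC K hKC hKr hKN hsep hO h k₀.2 fun n hn => ?_
    rw [hinv n hn _ k₀.2, hex _ k₀.2]
    exact hk₀
  push Not at hinv
  obtain ⟨n₀, hn₀, k₁, hk₁, hne⟩ := hinv
  have hcl : ∀ c ∈ K, ∀ k ∈ K, extendByZero K φ (c * k * c⁻¹) = extendByZero K φ k := by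
    intro c hc k hk
    rw [hex _ (mul_mem (mul_mem hc hk) (inv_mem hc)), hex _ hk]
    exact irr_conj hφ ⟨k, hk⟩ ⟨c, hc⟩
  have hn₀' : ¬ Inner K n₀ := by
    rintro ⟨c, hc, h1⟩
    exact hne (by rw [h1 _ hk₁, hcl c hc k₁ hk₁])
  -- the elements not acting as inner automorphisms kill
  have hkill : ∀ l ∈ Subgroup.centralizer ((R : Subgroup G) : Set G), ¬ Inner K l →
      ∀ n ∈ Subgroup.normalizer ((R : Subgroup G) : Set G), Kill K φ n l := by
    intro l hl hli n hn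
    left
    by_contra hcon
    push Not at hcon
    have hlN := centralizer_le_normalizer R hl
    set m := n * l * n⁻¹ with hm
    have hmN : m ∈ Subgroup.normalizer ((R : Subgroup G) : Set G) := mul_mem (mul_mem hn hlN) (inv_mem hn)
    have hfix : ∀ k ∈ K, extendByZero K φ (m * k * m⁻¹) = extendByZero K φ k := by
      intro k hk
      have hk' : n⁻¹ * k * n ∈ K := by
        have := hKN n⁻¹ (inv_mem hn) k hk
        rwa [inv_inv] at this
      have h1 := hcon _ hk'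
      have e1 : n * (l * (n⁻¹ * k * n) * l⁻¹) * n⁻¹ = m * k * m⁻¹ := by rw [hm]; group
      have e2 : n * (n⁻¹ * k * n) * n⁻¹ = k := by group
      rwa [e1, e2] at h1
    have hmi : ¬ Inner K m := by
      rintro ⟨c, hc, h1⟩
      apply hli
      refine ⟨n⁻¹ * c * n, ?_, fun k hk => ?_⟩
      · have := hKN n⁻¹ (inv_mem hn) c hc
        rwa [inv_inv] at this
      · have h2 := h1 (n * k * n⁻¹) (hKN n hn k hk)
        have e1 : l * k * l⁻¹ = n⁻¹ * (m * (n * k * n⁻¹) * m⁻¹) * n := by rw [hm]; group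
        rw [e1, h2]
        group
    obtain ⟨c, hc, h1⟩ := hidx m hmN n₀ hn₀ hmi hn₀'
    apply hne
    have e1 : n₀ * k₁ * n₀⁻¹ = m * ((m⁻¹ * n₀) * k₁ * (m⁻¹ * n₀)⁻¹) * m⁻¹ := by group
    rw [e1, h1 k₁ hk₁, hfix _ (mul_mem (mul_mem hc hk₁) (inv_mem hc)), hcl c hc k₁ hk₁]
  have hcR : ∀ {y c : G}, y ∈ R → c ∈ Subgroup.centralizer ((R : Subgroup G) : Set G) → Commute y c :=
    fun {y c} hy hc => Subgroup.mem_centralizer_iff.1 hc _ hy
  obtain ⟨x, hx, hx'⟩ := hO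
  rcases hl with ⟨l, hl, l', hl', hr, hr', hi, hi', hnc⟩ | ⟨⟨l, hl, hi⟩, y', hy', hC', hnc⟩
  · have h1 := h y hy hC l hl hr (hkill l hl hi)
    have h2 := h y hy hC l' hl' hr' (hkill l' hl' hi')
    obtain ⟨c, hc⟩ := isConj_iff.1 ((hx' _ h1).symm.trans (hx' _ h2))
    obtain ⟨e1, e2⟩ := conj_parts (rpow_of_mem R hy) (rpow_of_mem R hy) hr hr' (hcR hy hl) (hcR hy hl') hc
    have hcC : c ∈ Subgroup.centralizer ({y} : Set G) := by
      rw [Subgroup.mem_centralizer_singleton_iff]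
      rw [mul_inv_eq_iff_eq_mul] at e1
      exact e1
    exact hnc c (hC hcC) e2
  · -- the `r'`-part of `l`
    obtain ⟨l', hl'C, hl'r, hl'i⟩ : ∃ l' ∈ Subgroup.centralizer ((R : Subgroup G) : Set G),
        ¬ r ∣ orderOf l' ∧ ¬ Inner K l' := by
      obtain ⟨l₁, l₂, h12, hl₂, h1, h2⟩ := exists_parts R hl
      refine ⟨l₂, hl₂, h2, ?_⟩
      rintro ⟨c, hc, h3⟩
      refine hi ⟨c, hc, fun k hk => ?_⟩
      have h4 : l₁ * (l₂ * k * l₂⁻¹) * l₁⁻¹ = l₂ * k * l₂⁻¹ := by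
        have h5 : l₂ * k * l₂⁻¹ ∈ K := hKN l₂ (centralizer_le_normalizer R hl₂) k hk
        have h6 := Subgroup.mem_centralizer_iff.1 (hKC h5) l₁ h1
        rw [h6]
        group
      have h5 : l * k * l⁻¹ = l₁ * (l₂ * k * l₂⁻¹) * l₁⁻¹ := by rw [h12]; group
      rw [h5, h4, h3 k hk]
    have h1 := h y hy hC l' hl'C hl'r (hkill l' hl'C hl'i)
    have h2 := h y' hy' hC' l' hl'C hl'r (hkill l' hl'C hl'i)
    obtain ⟨c, hc⟩ := isConj_iff.1 ((hx' _ h1).symm.trans (hx' _ h2))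
    obtain ⟨e1, -⟩ := conj_parts (rpow_of_mem R hy) (rpow_of_mem R hy') hl'r hl'r (hcR hy hl'C)
      (hcR hy' hl'C) hc
    exact hnc (isConj_iff.2 ⟨c, e1⟩)

end Main

end Cfsg.Agent.H279.OZ
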