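import Cfsg.Agent.H530.OZ.Cover
import Cfsg.Agent.H279.OZ.KOne

/-!
# K-constancy through a central extension, common zeros (S4842, helper279)

* `cover_sylow` : the cyclic Sylow subgroup of the quotient (proof of helper530);
* `cong_of_cover` : `Cong p r k S` for a central extension `π : H →* S`, `z` of order `r`, `K ≤ C_H(z)`, every
  nonprincipal irreducible character of `K` vanishing on all elements of a certain order.
-/

set_option autoImplicit false

open Cfsg Cfsg.Agent.Characters Cfsg.Agent.H530.OZ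

namespace Cfsg.Agent.H279.OZ

universe u v

/-- elements of the same order of a cyclic subgroup -/
theorem mem_zpowers_of_orderOf {D : Type*} [Group D] [Finite D] {H : Subgroup D} (h : IsCyclic H) {x y : D}
    (hx : x ∈ H) (hy : y ∈ H) (hxy : orderOf x = orderOf y) : x ∈ Subgroup.zpowers y := by
  classical
  have := h
  have : Fintype H := Fintype.ofFinite H
  have hpos : 0 < orderOf (⟨y, hy⟩ : H) := orderOf_pos _
  have h1 := IsCyclic.card_pow_eq_one_le (α := H) hpos
  have h2 : (Finset.univ.filter (fun u : H => u ∈ Subgroup.zpowers (⟨y, hy⟩ : H))) ⊆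
      (Finset.univ.filter (fun u : H => u ^ orderOf (⟨y, hy⟩ : H) = 1)) := by
    intro u hu
    simp only [Finset.mem_filter, Finset.mem_univ, true_and] at hu ⊢
    obtain ⟨k, rfl⟩ := Subgroup.mem_zpowers_iff.1 hu
    rw [← zpow_natCast, ← zpow_mul, mul_comm, zpow_mul, zpow_natCast, pow_orderOf_eq_one, one_zpow]
  have h3 : (Finset.univ.filter (fun u : H => u ∈ Subgroup.zpowers (⟨y, hy⟩ : H))).card =
      orderOf (⟨y, hy⟩ : H) := by
    rw [← Nat.card_zpowers, Nat.card_eq_fintype_card, Fintype.card_subtype]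
  have h4 := Finset.eq_of_subset_of_card_le h2 (by rw [h3]; exact h1)
  have h5 : (⟨x, hx⟩ : H) ∈ Finset.univ.filter (fun u : H => u ∈ Subgroup.zpowers (⟨y, hy⟩ : H)) := by
    rw [h4]
    simp only [Finset.mem_filter, Finset.mem_univ, true_and]
    have h6 : orderOf (⟨y, hy⟩ : H) = orderOf (⟨x, hx⟩ : H) := by
      rw [Subgroup.orderOf_mk, Subgroup.orderOf_mk, hxy]
    rw [h6, pow_orderOf_eq_one]
  simp only [Finset.mem_filter, Finset.mem_univ, true_and] at h5
  obtain ⟨k, hk⟩ := Subgroup.mem_zpowers_iff.1 h5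
  exact Subgroup.mem_zpowers_iff.2 ⟨k, congrArg Subtype.val hk⟩

section cover

variable {H : Type v} {S : Type u} [Group H] [Finite H] [Group S] {π : H →* S} {p r c : ℕ}

/-- **A cyclic Sylow subgroup** of the quotient (from the proof of `H530.OZ.isoAt_of_cover`). -/
theorem cover_sylow (hπ : Function.Surjective π) (hr : r.Prime)
    (hcen : ∀ k ∈ π.ker, ∀ h : H, k * h = h * k)
    (hc : ∀ k ∈ π.ker, k ^ c = 1) (hcr : c.Coprime r) {z : H} (hz : orderOf z = r)
    {L : Type*} [Field L] (τ : Subgroup.centralizer ({z} : Set H) →* Lˣ)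
    (hτ : ∀ x : Subgroup.centralizer ({z} : Set H), (∃ j : ℕ, x ^ (r ^ j) = 1) → τ x = 1 → x = 1)
    (hcomm : ∀ x y : Subgroup.centralizer ({z} : Set H), (∃ j : ℕ, x ^ (r ^ j) = 1) → Commute x y) :
    ∃ R' : Sylow r S, IsCyclic (R' : Subgroup S) ∧ orderOf (π z) = r ∧ π z ∈ (R' : Subgroup S) ∧
      ∀ y, Commute (π z) y → ∀ t ∈ (R' : Subgroup S), Commute t y := by
  classical
  have hfr : Fact r.Prime := ⟨hr⟩
  have hfS : Finite S := Finite.of_surjective π hπ
  have hmem : ∀ {x : H}, x ∈ Subgroup.centralizer ({z} : Set H) ↔ Commute z x := by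
    intro x
    rw [Subgroup.mem_centralizer_singleton_iff]
    exact ⟨fun h => h.symm, fun h => h.symm⟩
  have hzz : z ∈ Subgroup.centralizer ({z} : Set H) := hmem.2 (Commute.refl z)
  -- elements of order dividing `r` in the centralizer
  have hord : ∀ x : H, Commute z x → x ^ r = 1 → x ∈ Subgroup.zpowers z := by
    intro x hx hxr
    set x' : Subgroup.centralizer ({z} : Set H) := ⟨x, hmem.2 hx⟩ with hx'
    set z' : Subgroup.centralizer ({z} : Set H) := ⟨z, hzz⟩ with hz'
    have hz'o : orderOf (τ z') = r := by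
      rcases (Nat.dvd_prime hr).1 (orderOf_dvd_of_pow_eq_one (x := τ z') (n := r) (by
        rw [← map_pow]
        have : z' ^ r = 1 := Subtype.ext (by
          show z ^ r = 1
          rw [← hz, pow_orderOf_eq_one])
        rw [this, map_one])) with h | h
      · exfalso
        have h1 := hτ z' ⟨1, Subtype.ext (by
          show z ^ (r ^ 1) = 1
          rw [pow_one, ← hz, pow_orderOf_eq_one])⟩ (orderOf_eq_one_iff.1 h)
        have h2 : z = 1 := congrArg Subtype.val h1
        rw [h2, orderOf_one] at hz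
        exact hr.one_lt.ne hz
      · exact h
    have hprim : IsPrimitiveRoot (τ z' : L) r := by
      rw [← hz'o, ← orderOf_units]
      exact IsPrimitiveRoot.orderOf _
    have hxr' : ((τ x' : Lˣ) : L) ^ r = 1 := by
      rw [← Units.val_pow_eq_pow_val, ← map_pow]
      have : x' ^ r = 1 := Subtype.ext hxr
      rw [this, map_one, Units.val_one]
    have : NeZero r := ⟨hr.ne_zero⟩
    obtain ⟨i, hi, hi2⟩ := hprim.eq_pow_of_pow_eq_one hxr'
    have h3 : τ (x' * (z' ^ i)⁻¹) = 1 := by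
      rw [map_mul, map_inv, map_pow]
      have : τ z' ^ i = τ x' := Units.ext (by rw [Units.val_pow_eq_pow_val]; exact hi2)
      rw [this, mul_inv_cancel]
    have hcx : Commute x' z' := Subtype.ext hx.symm.eq
    have h4 := hτ (x' * (z' ^ i)⁻¹) ⟨1, by
      have h5 : Commute x' (z' ^ i)⁻¹ := (hcx.pow_right i).inv_right
      rw [pow_one, h5.mul_pow, inv_pow, ← pow_mul, mul_comm i r, pow_mul]
      have h6 : x' ^ r = 1 := Subtype.ext hxr
      have h7 : z' ^ r = 1 := Subtype.ext (by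
        show z ^ r = 1
        rw [← hz, pow_orderOf_eq_one])
      rw [h6, h7, one_pow, inv_one, mul_one]⟩ h3
    have h5 : x' = z' ^ i := mul_inv_eq_one.1 h4
    have h6 : x = z ^ i := congrArg Subtype.val h5
    rw [h6]
    exact Subgroup.npow_mem_zpowers z i
  -- the Sylow subgroup
  have hzP : IsPGroup r (Subgroup.zpowers z) := IsPGroup.of_card (n := 1) (by rw [Nat.card_zpowers, hz, pow_one])
  obtain ⟨R, hR⟩ := hzP.exists_le_sylow
  have hzR : z ∈ (R : Subgroup H) := hR (Subgroup.mem_zpowers z)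
  have hz1 : z ≠ 1 := by
    rintro rfl
    rw [orderOf_one] at hz
    exact hr.one_lt.ne hz
  have hRC : (R : Subgroup H) ≤ Subgroup.centralizer ({z} : Set H) := by
    have hnt : Nontrivial (R : Subgroup H) := ⟨⟨⟨z, hzR⟩, 1, fun h => hz1 (congrArg Subtype.val h)⟩⟩
    have hcnt := R.2.center_nontrivial
    obtain ⟨y, hy⟩ := exists_ne (1 : Subgroup.center (R : Subgroup H))
    -- an element of order `r` in the centre
    have hyo : ∃ j : ℕ, orderOf (y : (R : Subgroup H)) = r ^ (j + 1) := by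
      obtain ⟨j, hj⟩ := (IsPGroup.iff_orderOf.1 R.2) (y : (R : Subgroup H))
      rcases j with _ | j
      · exfalso
        rw [pow_zero] at hj
        exact hy (Subtype.ext (orderOf_eq_one_iff.1 hj))
      · exact ⟨j, hj⟩
    obtain ⟨j, hj⟩ := hyo
    set w : (R : Subgroup H) := (y : (R : Subgroup H)) ^ (r ^ j) with hw
    have hwo : orderOf w = r := by
      rw [hw, orderOf_pow_of_dvd (pow_pos hr.pos j).ne' (by rw [hj]; exact pow_dvd_pow r (Nat.le_succ j)), hj,
        Nat.pow_div (Nat.le_succ j) hr.pos]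
      simp
    have hwc : w ∈ Subgroup.center (R : Subgroup H) := Subgroup.pow_mem _ y.2 _
    have hwc' : ∀ t : (R : Subgroup H), t * w = w * t := fun t => (Subgroup.mem_center_iff.1 hwc t)
    have hwz : Commute z (w : H) := by
      have := congrArg Subtype.val (hwc' ⟨z, hzR⟩)
      exact this
    have hw1 : (w : H) ∈ Subgroup.zpowers z := by
      refine hord _ hwz ?_
      have : w ^ r = 1 := orderOf_dvd_iff_pow_eq_one.1 (dvd_of_eq hwo)
      exact congrArg Subtype.val this
    have hwo' : orderOf (w : H) = r := by rw [Subgroup.orderOf_coe, hwo]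
    have hzw : z ∈ Subgroup.zpowers (w : H) := by
      have h1 : Subgroup.zpowers (w : H) ≤ Subgroup.zpowers z := by rwa [Subgroup.zpowers_le]
      have h2 := Subgroup.eq_of_le_of_card_ge h1 (by rw [Nat.card_zpowers, Nat.card_zpowers, hwo', hz])
      rw [h2]
      exact Subgroup.mem_zpowers z
    intro t ht
    rw [hmem]
    obtain ⟨k, hk⟩ := Subgroup.mem_zpowers_iff.1 hzw
    rw [← hk]
    have h1 : Commute (w : H) t := (congrArg Subtype.val (hwc' ⟨t, ht⟩)).symm
    exact h1.zpow_left k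
  have hRr : ∀ x : Subgroup.centralizer ({z} : Set H), (x : H) ∈ (R : Subgroup H) → ∃ j : ℕ, x ^ (r ^ j) = 1 := by
    intro x hx
    obtain ⟨j, hj⟩ := R.2 ⟨x, hx⟩
    have h1 : (x : H) ^ (r ^ j) = 1 := congrArg Subtype.val hj
    exact ⟨j, Subtype.ext h1⟩
  have hRcyc : IsCyclic (R : Subgroup H) := by
    let f : (R : Subgroup H) →* Lˣ := τ.comp (Subgroup.inclusion hRC)
    have hf : Function.Injective f := by
      rw [injective_iff_map_eq_one]
      intro x hx
      have h1 := hτ (Subgroup.inclusion hRC x) (hRr _ x.2) hx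
      have h2 : (x : H) = 1 := congrArg Subtype.val h1
      exact Subtype.ext h2
    let g : (R : Subgroup H) →* L := (Units.coeHom L).comp f
    exact isCyclic_of_injective_ringHom g (fun a b hab => hf (Units.ext hab))
  set R' : Sylow r S := R.mapSurjective hπ with hR'
  have hR'c : ((R' : Sylow r S) : Subgroup S) = (R : Subgroup H).map π := Sylow.coe_mapSurjective hπ R
  have hR'cyc : IsCyclic (R' : Subgroup S) := by
    rw [hR'c]
    exact isCyclic_of_surjective (π.subgroupMap (R : Subgroup H)) (π.subgroupMap_surjective _)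
  -- the order of `π z`
  have hπz : orderOf (π z) = r := by
    rcases (Nat.dvd_prime hr).1 (hz ▸ orderOf_map_dvd π z) with h | h
    · exfalso
      have h1 : π z = 1 := orderOf_eq_one_iff.1 h
      have h2 : z ^ c = 1 := hc z (MonoidHom.mem_ker.2 h1)
      have h3 : r ∣ c := hz ▸ orderOf_dvd_of_pow_eq_one h2
      exact hr.one_lt.ne' (Nat.dvd_one.1 (hcr ▸ Nat.dvd_gcd h3 dvd_rfl))
    · exact h
  have hC : ∀ y, Commute (π z) y → ∀ t ∈ (R' : Subgroup S), Commute t y := by
    intro y hy t ht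
    obtain ⟨y, rfl⟩ := hπ y
    rw [hR'c] at ht
    obtain ⟨t, ht', rfl⟩ := Subgroup.mem_map.1 ht
    have h1 := commute_of_map hcen hc hcr hz hy
    have h2 := hcomm ⟨t, hRC ht'⟩ ⟨y, hmem.2 h1⟩ (hRr ⟨t, hRC ht'⟩ ht')
    have h3 : Commute t y := congrArg Subtype.val h2.eq
    exact h3.map π
  exact ⟨R', hR'cyc, hπz, by rw [hR'c]; exact Subgroup.mem_map_of_mem π hzR, hC⟩

/-- **K-constancy through a central extension.** -/
theorem cong_of_cover [Finite S] (hπ : Function.Surjective π) (hr : r.Prime) (hp : p.Prime) (hrp : r ≠ p)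
    (hcen : ∀ k ∈ π.ker, ∀ h : H, k * h = h * k)
    (hc : ∀ k ∈ π.ker, k ^ c = 1) (hcr : c.Coprime r) (hcp : c.Coprime p) {z : H} (hz : orderOf z = r)
    {L : Type*} [Field L] (τ : Subgroup.centralizer ({z} : Set H) →* Lˣ)
    (hτ : ∀ x : Subgroup.centralizer ({z} : Set H), (∃ j : ℕ, x ^ (r ^ j) = 1) → τ x = 1 → x = 1)
    (hcomm : ∀ x y : Subgroup.centralizer ({z} : Set H), (∃ j : ℕ, x ^ (r ^ j) = 1) → Commute x y)
    (K : Subgroup H) (hKz : ∀ k ∈ K, Commute z k) (hKr : ¬ r ∣ Nat.card K) (hK1 : K ≠ ⊥)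
    (hKc : ∀ k ∈ K, (∀ k' ∈ K, k * k' = k' * k) → k = 1)
    (hKN : ∀ n : H, (∃ m : ℕ, n * z * n⁻¹ = z ^ m) → ∀ k ∈ K, n * k * n⁻¹ ∈ K)
    (hZ : ∀ φ : K → ℂ, IsIrrCharacter K φ → (∃ k, φ k ≠ 1) →
      ∃ k : K, ∀ k' : K, orderOf k' = orderOf k → φ k' = 0)
    (hpK : ∀ x : H, Commute z x → (∃ j : ℕ, x ^ (p ^ j) = 1) → x ∈ K)
    (hnot : ¬ ((∀ x : H, Commute z x → (∀ k ∈ K, Commute x k) → (π x) ^ r = 1) ∧
      ∀ m : ℕ, ¬ r ∣ m → IsConj z (z ^ m)))
    {k : ℕ} (hk : Nat.card {v : K // ∃ j : ℕ, orderOf v = p ^ j} = p ^ k) : H730.OZ.Cong p r k S := by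
  classical
  have hfr : Fact r.Prime := ⟨hr⟩
  have := Fintype.ofFinite S
  obtain ⟨R, hcyc, hπz, hzR, hC⟩ := cover_sylow hπ hr hcen hc hcr hz τ hτ hcomm
  -- the kernel of `π` on `K`
  have hKker : ∀ k ∈ K, π k = 1 → k = 1 := fun k hk h1 =>
    hKc k hk fun k' _ => hcen k (MonoidHom.mem_ker.2 h1) k'
  let f : K →* K.map π := π.subgroupMap K
  have hfs : Function.Surjective f := π.subgroupMap_surjective K
  have hfi : Function.Injective f := by
    rw [injective_iff_map_eq_one]
    intro x hx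
    exact Subtype.ext (hKker x x.2 (congrArg Subtype.val hx))
  have hfa : ∀ x : K, ((f x : K.map π) : S) = π x := fun x => rfl
  let e : K ≃* K.map π := MulEquiv.ofBijective f ⟨hfi, hfs⟩
  have hKcard : Nat.card (K.map π) = Nat.card K := (Nat.card_congr e.toEquiv).symm
  -- centralizers
  have hCC : Subgroup.centralizer ({π z} : Set S) ≤ Subgroup.centralizer ((R : Subgroup S) : Set S) := by
    intro y hy
    rw [Subgroup.mem_centralizer_singleton_iff] at hy
    rw [Subgroup.mem_centralizer_iff]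
    intro t ht
    exact hC y (show π z * y = y * π z from hy.symm) t ht
  have hab : (R : Subgroup S) ≤ Subgroup.centralizer ((R : Subgroup S) : Set S) := by
    intro a ha
    rw [Subgroup.mem_centralizer_iff]
    intro b hb
    have h1 : (⟨b, hb⟩ : (R : Subgroup S)) * ⟨a, ha⟩ = ⟨a, ha⟩ * ⟨b, hb⟩ := by
      have := hcyc.isMulCommutative
      exact Std.Commutative.comm _ _
    exact congrArg Subtype.val h1
  have hK'C : K.map π ≤ Subgroup.centralizer ((R : Subgroup S) : Set S) := by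
    rintro _ ⟨x, hx, rfl⟩
    apply hCC
    rw [Subgroup.mem_centralizer_singleton_iff]
    exact ((hKz x hx).map π).symm.eq
  have hK'r : ¬ r ∣ Nat.card (K.map π) := by rwa [hKcard]
  -- lifts of the elements commuting with `π z`
  have hlift : ∀ y : S, Commute (π z) y → ∃ x : H, Commute z x ∧ π x = y := by
    intro y hy
    obtain ⟨x, rfl⟩ := hπ y
    exact ⟨x, commute_of_map hcen hc hcr hz hy, rfl⟩
  -- lifts of the normalizer
  have hNlift : ∀ n : S, n ∈ Subgroup.normalizer ((R : Subgroup S) : Set S) →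
      ∃ h : H, π h = n ∧ ∃ m : ℕ, h * z * h⁻¹ = z ^ m := by
    intro n hn
    obtain ⟨h, rfl⟩ := hπ n
    refine ⟨h, rfl, ?_⟩
    have h1 : π (h * z * h⁻¹) ∈ (R : Subgroup S) := by
      rw [map_mul, map_mul, map_inv]
      exact (Subgroup.mem_normalizer_iff.1 hn (π z)).1 hzR
    have h2 : orderOf (π (h * z * h⁻¹)) = r := by
      rw [← hπz]
      have h3 : π (h * z * h⁻¹) = MulAut.conj (π h) (π z) := by
        rw [map_mul, map_mul, map_inv]
        rfl
      rw [h3]
      exact orderOf_injective (MulAut.conj (π h)).toMonoidHom (MulAut.conj (π h)).injective (π z)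
    -- the elements of order `r` of a cyclic group
    have h3 : π (h * z * h⁻¹) ∈ Subgroup.zpowers (π z) :=
      mem_zpowers_of_orderOf hcyc h1 hzR (h2.trans hπz.symm)
    obtain ⟨m, hm⟩ : ∃ m : ℕ, π z ^ m = π (h * z * h⁻¹) := by
      obtain ⟨m, -, hm⟩ := (mem_zpowers_iff_mem_range_orderOf.1 h3 |> Finset.mem_image.1)
      exact ⟨m, hm⟩
    refine ⟨m, ?_⟩
    have hk : h * z * h⁻¹ * (z ^ m)⁻¹ ∈ π.ker := by
      rw [MonoidHom.mem_ker, map_mul, ← hm, map_inv, map_pow, mul_inv_cancel]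
    set k := h * z * h⁻¹ * (z ^ m)⁻¹ with hkdef
    have h5 : h * z * h⁻¹ = k * z ^ m := by rw [hkdef]; group
    have h6 : (h * z * h⁻¹) ^ r = 1 := by
      rw [conj_pow, ← hz, pow_orderOf_eq_one, mul_one, mul_inv_cancel]
    have h7 : k ^ r = 1 := by
      have h8 : Commute k (z ^ m) := hcen k hk _
      rw [h5, h8.mul_pow, ← pow_mul, mul_comm m r, pow_mul, ← hz, pow_orderOf_eq_one, one_pow, mul_one] at h6
      rwa [← hz]
    have h8 : k = 1 := by
      have h9 := orderOf_dvd_of_pow_eq_one (hc k hk)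
      have h10 := orderOf_dvd_of_pow_eq_one h7
      have h11 : orderOf k = 1 := Nat.dvd_one.1 (hcr ▸ Nat.dvd_gcd h9 h10)
      exact orderOf_eq_one_iff.1 h11
    rw [h5, h8, one_mul]
  have hK'N : ∀ n ∈ Subgroup.normalizer ((R : Subgroup S) : Set S), ∀ k ∈ K.map π, n * k * n⁻¹ ∈ K.map π := by
    rintro n hn _ ⟨x, hx, rfl⟩
    obtain ⟨h, rfl, m, hm⟩ := hNlift n hn
    refine ⟨h * x * h⁻¹, hKN h ⟨m, hm⟩ x hx, ?_⟩
    rw [map_mul, map_mul, map_inv]
  -- the common zeros
  have hZ' : ∀ φ : K.map π → ℂ, IsIrrCharacter (K.map π) φ → (∃ k, φ k ≠ 1) → ∃ k : K.map π,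
      ∀ n ∈ Subgroup.normalizer ((R : Subgroup S) : Set S), ∀ h : n * (k : S) * n⁻¹ ∈ K.map π,
        φ ⟨n * (k : S) * n⁻¹, h⟩ = 0 := by
    rintro φ hφ ⟨k₁, hk₁⟩
    obtain ⟨x₁, rfl⟩ := hfs k₁
    obtain ⟨k, hk⟩ := hZ (φ ∘ f) (Core.isIrr_comp f hfs hφ) ⟨x₁, hk₁⟩
    refine ⟨f k, fun n hn hh => ?_⟩
    obtain ⟨h, rfl, m, hm⟩ := hNlift n hn
    have h1 : h * (k : H) * h⁻¹ ∈ K := hKN h ⟨m, hm⟩ k k.2
    have h2 := hk ⟨h * (k : H) * h⁻¹, h1⟩ (by
      rw [Subgroup.orderOf_mk, ← Subgroup.orderOf_coe]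
      exact orderOf_injective (MulAut.conj h).toMonoidHom (MulAut.conj h).injective (k : H))
    have h3 : f ⟨h * (k : H) * h⁻¹, h1⟩ = ⟨π h * ((f k : K.map π) : S) * (π h)⁻¹, hh⟩ := by
      apply Subtype.ext
      show π (h * (k : H) * h⁻¹) = π h * π (k : H) * (π h)⁻¹
      rw [map_mul, map_mul, map_inv]
    rw [← h3]
    exact h2
  have hrp' : p ≠ r := hrp.symm
  -- two classes
  have hsep : Sep R (K.map π) (π z) := by
    by_contra hns
    rw [Sep, not_or] at hns
    obtain ⟨hn1, hn2⟩ := hns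
    push Not at hn1 hn2
    apply hnot
    -- powers of `π z` and elements of `R`
    have hgood : ∀ y ∈ (R : Subgroup S), y ≠ 1 →
        Subgroup.centralizer ({y} : Set S) ≤ Subgroup.centralizer ((R : Subgroup S) : Set S) := by
      intro y hy hy1
      -- a power of `y` generates `⟨π z⟩`
      obtain ⟨a, ha⟩ := rpow_of_mem R hy
      have ha0 : a ≠ 0 := by
        rintro rfl
        rw [pow_zero] at ha
        exact hy1 (orderOf_eq_one_iff.1 ha)
      obtain ⟨b, rfl⟩ : ∃ b, a = b + 1 := ⟨a - 1, by omega⟩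
      have h1 : orderOf (y ^ (r ^ b)) = r := by
        rw [orderOf_pow_of_dvd (pow_pos hr.pos b).ne' (by rw [ha]; exact pow_dvd_pow r (Nat.le_succ b)), ha,
          Nat.pow_div (Nat.le_succ b) hr.pos]
        simp
      have h2 : π z ∈ Subgroup.zpowers (y ^ (r ^ b)) :=
        mem_zpowers_of_orderOf hcyc hzR (pow_mem hy _) (hπz.trans h1.symm)
      intro w hw
      apply hCC
      rw [Subgroup.mem_centralizer_singleton_iff] at hw ⊢
      obtain ⟨i, hi⟩ := Subgroup.mem_zpowers_iff.1 h2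
      rw [← hi]
      exact ((show Commute w y from hw).pow_right (r ^ b)).zpow_right i
    constructor
    · intro x hx hxK
      have hxC : π x ∈ Subgroup.centralizer ((R : Subgroup S) : Set S) := hCC (by
        rw [Subgroup.mem_centralizer_singleton_iff]
        exact (hx.map π).symm.eq)
      obtain ⟨l₁, l₂, h12, hl₂, hl₁, hr2⟩ := exists_parts R hxC
      -- `l₂` centralizes `K'`
      have hl₂K : ∀ y ∈ K.map π, l₂ * y = y * l₂ := by
        rintro y ⟨w, hw, rfl⟩
        have h1 : Commute (π x) (π w) := (hxK w hw).map π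
        have h2 : Commute l₁ (π w) := Subgroup.mem_centralizer_iff.1 (hK'C ⟨w, hw, rfl⟩) l₁ hl₁
        have h3 : l₂ = l₁⁻¹ * π x := by rw [h12]; group
        rw [h3]
        exact (h2.inv_left.mul_left h1).eq
      have hl₂m : l₂ ∈ K.map π := by
        by_contra hcon
        exact hr2 (hn1 l₂ hl₂ hl₂K hcon)
      have hl₂1 : l₂ = 1 := by
        obtain ⟨w, hw, hwl⟩ := hl₂m
        have h1 : w = 1 := by
          refine hKc w hw fun k' hk' => ?_
          have h2 : f (⟨w, hw⟩ * ⟨k', hk'⟩) = f (⟨k', hk'⟩ * ⟨w, hw⟩) := by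
            apply Subtype.ext
            show π (w * k') = π (k' * w)
            rw [map_mul, map_mul, hwl]
            exact hl₂K _ ⟨k', hk', rfl⟩
          exact congrArg Subtype.val (hfi h2)
        rw [← hwl, h1, map_one]
      rw [hl₂1, mul_one] at h12
      rw [h12]
      -- `l₁` is conjugate to `π z` or trivial
      by_cases hl : l₁ = 1
      · rw [hl, one_pow]
      · obtain ⟨g, hg⟩ := isConj_iff.1 (hn2 l₁ hl₁ (hgood l₁ hl₁ hl))
        rw [← hg, conj_pow]
        nth_rw 1 [← hπz]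
        rw [pow_orderOf_eq_one, mul_one, mul_inv_cancel]
    · intro m hm
      have hzm1 : π z ^ m ≠ 1 := by
        intro h1
        apply hm
        rw [← hπz]
        exact orderOf_dvd_of_pow_eq_one h1
      obtain ⟨g, hg⟩ := isConj_iff.1 (hn2 (π z ^ m) (pow_mem hzR m) (hgood _ (pow_mem hzR m) hzm1))
      obtain ⟨g, rfl⟩ := hπ g
      refine isConj_iff.2 ⟨g, ?_⟩
      have hk : g * z * g⁻¹ * (z ^ m)⁻¹ ∈ π.ker := by
        rw [MonoidHom.mem_ker, map_mul, map_mul, map_mul, map_inv, map_inv, map_pow, hg, mul_inv_cancel]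
      set k := g * z * g⁻¹ * (z ^ m)⁻¹ with hkdef
      have h5 : g * z * g⁻¹ = k * z ^ m := by rw [hkdef]; group
      have h6 : (g * z * g⁻¹) ^ r = 1 := by
        rw [conj_pow, ← hz, pow_orderOf_eq_one, mul_one, mul_inv_cancel]
      have h7 : k ^ r = 1 := by
        have h8 : Commute k (z ^ m) := hcen k hk _
        rw [h5, h8.mul_pow, ← pow_mul, mul_comm m r, pow_mul, ← hz, pow_orderOf_eq_one, one_pow, mul_one] at h6
        rwa [← hz]
      have h8 : k = 1 := by
        have h9 := orderOf_dvd_of_pow_eq_one (hc k hk)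
        have h10 := orderOf_dvd_of_pow_eq_one h7
        have h11 : orderOf k = 1 := Nat.dvd_one.1 (hcr ▸ Nat.dvd_gcd h9 h10)
        exact orderOf_eq_one_iff.1 h11
      rw [h5, h8, one_mul]
  -- the `p`-elements commuting with `π z`
  have hpK' : ∀ v : S, Commute (π z) v → (∃ j, orderOf v = p ^ j) → v ∈ K.map π := by
    rintro v hv ⟨j, hj⟩
    obtain ⟨x, hx, rfl⟩ := hlift v hv
    -- a power of `x` with the same image
    have hcj : Nat.Coprime c (p ^ j) := Nat.Coprime.pow_right j hcp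
    obtain ⟨i, hi1, hi2⟩ := Nat.chineseRemainder hcj 0 1
    obtain ⟨s, hs⟩ := (Nat.modEq_zero_iff_dvd).1 hi1
    have h1 : π (x ^ i) = π x := by
      rw [map_pow]
      conv_rhs => rw [← pow_one (π x)]
      rw [pow_eq_pow_iff_modEq, hj]
      exact hi2
    have h2 : (x ^ i) ^ (p ^ j) = 1 := by
      have h3 : x ^ (p ^ j) ∈ π.ker := by
        rw [MonoidHom.mem_ker, map_pow, ← hj, pow_orderOf_eq_one]
      rw [← pow_mul, mul_comm, pow_mul, hs, pow_mul, hc _ h3, one_pow]
    exact ⟨x ^ i, hpK _ (hx.pow_right i) ⟨j, h2⟩, h1⟩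
  -- the conclusion
  refine H732.VZ.cong_of_const (z := π z) hp hr hrp hπz ?_ fun χ x hx => ⟨?_, ?_⟩
  · rw [← hk]
    refine (Nat.card_congr ?_).symm
    refine Equiv.ofBijective (fun v => (⟨π (v : K), ?_, ?_⟩ : {v : S // Commute (π z) v ∧ ∃ k : ℕ, orderOf v = p ^ k})) ⟨?_, ?_⟩
    · exact (hKz _ (v : K).2).map π
    · obtain ⟨j, hj⟩ := v.2
      refine ⟨j, ?_⟩
      rw [← hj]
      have h1 : orderOf (f (v : K)) = orderOf (v : K) := orderOf_injective f hfi (v : K)
      rw [← h1, ← Subgroup.orderOf_coe]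
      rfl
    · intro v w hvw
      have h1 : f (v : K) = f (w : K) := Subtype.ext (congrArg (fun t : {v : S // Commute (π z) v ∧ ∃ k : ℕ, orderOf v = p ^ k} => (t : S)) hvw)
      exact Subtype.ext (hfi h1)
    · rintro ⟨v, hv, hv'⟩
      obtain ⟨w, hw, rfl⟩ := hpK' v hv hv'
      refine ⟨⟨⟨w, hw⟩, ?_⟩, rfl⟩
      obtain ⟨j, hj⟩ := hv'
      refine ⟨j, ?_⟩
      rw [← hj]
      have h1 : orderOf (f (⟨w, hw⟩ : K)) = orderOf (⟨w, hw⟩ : K) := orderOf_injective f hfi _
      rw [← h1, ← Subgroup.orderOf_coe]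
      rfl
  · refine H732.VZ.not_dvd_of_sylow R hcyc hπz hzR hCC (Or.inl fun h1 => ?_) χ x hx
    -- `|C(π z)| ≠ r`
    have h2 : K.map π ≤ Subgroup.centralizer ({π z} : Set S) := by
      rintro _ ⟨x, hx, rfl⟩
      rw [Subgroup.mem_centralizer_singleton_iff]
      exact ((hKz x hx).map π).symm.eq
    have h3 := Subgroup.card_dvd_of_le h2
    rw [h1, hKcard] at h3
    rcases (Nat.dvd_prime hr).1 h3 with h4 | h4
    · exact hK1 (Subgroup.card_eq_one.1 h4)
    · exact hKr (dvd_of_eq h4.symm)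
  · have h1 := kconst_one R hab hzR hCC (K.map π) hK'C hK'r hK'N hZ' hsep χ ((H732.VZ.oneZero_iff χ.2).2 ⟨x, hx⟩)
    exact fun v hv hv' => h1 v (hpK' v hv hv')

end cover

end Cfsg.Agent.H279.OZ
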