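import Cfsg.Agent.H727.PslSq
import Cfsg.Agent.S2300
import Cfsg.Agent.WeakTI.PslTwo
import Cfsg.Agent.H732.VZ.Close
import Cfsg.Agent.H679.Lin
import Cfsg.Agent.ClassicalGeometry.PSL2Basic

/-!
# Zeros of the characters of `PSL_2(q²)` common to all automorphic images (S4842, helper279)

* `zero_of_hall` : a character whose degree is divisible by a Hall divisor `A ≠ 1` of the group order vanishes on all
  elements of a certain order;
* `psl2_zero` : so does every nonprincipal irreducible character of `PSL_2(q²)`.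
-/

set_option autoImplicit false

open Cfsg Cfsg.Agent.Characters

namespace Cfsg.Agent.H279.OZ

universe u v

theorem zero_of_hall {K : Type u} [Group K] [Finite K] {A B : ℕ} (hK : Nat.card K = A * B)
    (hcop : Nat.Coprime A B) (hA : A ≠ 1) {φ : K → ℂ} (hφ : IsIrrCharacter K φ) (hd : A ∣ charDegree φ) :
    ∃ k : K, ∀ k' : K, orderOf k' = orderOf k → φ k' = 0 := by
  have hA0 : A ≠ 0 := by
    rintro rfl
    rw [zero_mul] at hK
    exact Nat.card_pos.ne' hK
  have hs := Nat.minFac_prime hA
  have := Fact.mk hs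
  have hsA := Nat.minFac_dvd A
  obtain ⟨a, A', hA', hAA⟩ := Nat.exists_eq_pow_mul_and_not_dvd hA0 A.minFac hs.ne_one
  obtain ⟨k, hk⟩ := exists_prime_orderOf_dvd_card' (G := K) A.minFac (by rw [hK]; exact hsA.mul_right B)
  refine ⟨k, fun k' hk' => ?_⟩
  refine H732.VZ.zero_of_defect (p := A.minFac) (a := a) (n := A' * B) hs ?_ ?_ ⟨φ, hφ⟩ ?_ ?_
  · rw [hK, ← mul_assoc, ← hAA]
  · intro h
    rcases (Nat.Prime.dvd_mul hs).1 h with h1 | h1
    · exact hA' h1
    · exact hs.one_lt.ne' (Nat.dvd_one.1 (hcop ▸ Nat.dvd_gcd hsA h1))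
  · refine dvd_trans ?_ hd
    rw [hAA]
    conv_lhs => rw [← hAA]
    exact Dvd.intro _ rfl
  · rw [hk', hk]

theorem deg_of_eq {K : Type u} [Group K] [Finite K] {φ : K → ℂ} (hφ : IsIrrCharacter K φ) {d : ℕ}
    (h : φ 1 = (d : ℂ)) : charDegree φ = d := by
  have h1 : (charDegree φ : ℂ) = (d : ℂ) := by
    rw [← h]
    exact H686.CharKit.charDegree_irr ⟨φ, hφ⟩
  exact_mod_cast h1

open Matrix in
theorem perfect_psl2 {E : Type v} [Field E] [Fintype E] (h4 : 4 ≤ Fintype.card E) :
    commutator (ProjectiveSpecialLinearGroup (Fin 2) E) = ⊤ := by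
  classical
  obtain ⟨a, ha⟩ := IsCyclic.exists_generator (α := Eˣ)
  have ho : orderOf a = Fintype.card E - 1 := by
    rw [orderOf_eq_card_of_forall_mem_zpowers ha, Nat.card_eq_fintype_card, Fintype.card_units]
  have h2 : ((a : Eˣ) : E) ^ 2 ≠ 1 := by
    intro h
    have h1 : a ^ 2 = 1 := Units.ext (by rw [Units.val_pow_eq_pow_val, h, Units.val_one])
    have h3 := Nat.le_of_dvd two_pos (orderOf_dvd_of_pow_eq_one h1)
    omega
  exact H727.PslSq.commutator_of_surjective (QuotientGroup.mk' (Subgroup.center (SpecialLinearGroup (Fin 2) E)))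
    (QuotientGroup.mk'_surjective _) (Matrix.SL2.commutator_eq_top a.ne_zero h2)

/-- the degree of a nonprincipal irreducible character of `PSL_2(q²)` is divisible by a Hall divisor of the order -/
theorem psl2_hall {E : Type v} [Field E] [Fintype E] {q : ℕ} (hE : Fintype.card E = q ^ 2) (hq : 2 ≤ q)
    {φ : Matrix.ProjectiveSpecialLinearGroup (Fin 2) E → ℂ} (hφ : IsIrrCharacter _ φ) (h1 : ∃ k, φ k ≠ 1) :
    ∃ A B : ℕ, Nat.card (Matrix.ProjectiveSpecialLinearGroup (Fin 2) E) = A * B ∧ Nat.Coprime A B ∧ A ≠ 1 ∧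
      A ∣ charDegree φ := by
  classical
  have hfin : Finite (Matrix.ProjectiveSpecialLinearGroup (Fin 2) E) := by
    unfold Matrix.ProjectiveSpecialLinearGroup
    infer_instance
  have h4 : 4 ≤ Fintype.card E := by
    rw [hE]
    nlinarith
  have hd1 : φ 1 ≠ 1 := by
    intro h
    obtain ⟨k, hk⟩ := h1
    exact hk (Cfsg.Agent.H679.linear_apply_eq_one hφ h (by rw [perfect_psl2 h4]; trivial))
  rcases Nat.even_or_odd q with he | ho
  · -- even
    have hchar : CharP E 2 := by
      have : Even (Fintype.card E) := by rw [hE]; exact he.pow_of_ne_zero two_ne_zero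
      have h2 : (2 : E) = 0 := by
        by_contra h
        exact (Nat.not_even_iff_odd.2 ((ClassicalGeometry.PSL2Basic.two_ne_zero_iff_odd E).1 h)) this
      exact CharTwo.of_one_ne_zero_of_two_eq_zero one_ne_zero h2
    obtain ⟨e⟩ := WeakTI.PslTwo.nonempty_equiv (F := E)
    obtain ⟨hdeg, -⟩ := S2300.result (F := E)
    have hφ' := hdeg (φ ∘ e) (Core.isIrr_comp e.toMonoidHom e.surjective hφ)
    have e1 : (φ ∘ e) 1 = φ 1 := by simp
    rw [e1] at hφ'
    have hcard := ClassicalGeometry.PSL2Basic.card_PSL2_even (F := E) (by rw [hE]; exact he.pow_of_ne_zero two_ne_zero)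
    have hev : Even (Fintype.card E) := by rw [hE]; exact he.pow_of_ne_zero two_ne_zero
    obtain ⟨x, hx⟩ : ∃ x, Fintype.card E = x + 1 := ⟨Fintype.card E - 1, by omega⟩
    have hsq : Fintype.card E ^ 2 - 1 = x * (x + 2) := by
      rw [hx, show (x + 1) ^ 2 = x * (x + 2) + 1 by ring, Nat.add_sub_cancel]
    rw [hsq, hx] at hcard
    have hxodd : Odd x := by
      rw [hx] at hev
      exact (Nat.even_add_one.1 hev |> Nat.not_even_iff_odd.1)
    have c1 : Nat.Coprime x (x + 2) := by
      rw [Nat.coprime_self_add_right]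
      exact (Nat.coprime_two_right).2 hxodd
    have c2 : Nat.Coprime (x + 1) x := by
      rw [Nat.coprime_comm, Nat.coprime_self_add_right]
      exact Nat.coprime_one_right x
    have c3 : Nat.Coprime (x + 1) (x + 2) := by
      rw [show x + 2 = (x + 1) + 1 by ring, Nat.coprime_self_add_right]
      exact Nat.coprime_one_right _
    rcases hφ' with h | h | h | h
    · exact absurd h hd1
    · refine ⟨x, (x + 1) * (x + 2), by rw [hcard]; ring, ?_, by omega, ?_⟩
      · exact Nat.Coprime.mul_right c2.symm c1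
      · rw [deg_of_eq (d := x) hφ (by rw [h, hx]; push_cast; ring)]
    · refine ⟨x + 1, x * (x + 2), hcard, ?_, by omega, ?_⟩
      · exact Nat.Coprime.mul_right c2 c3
      · rw [deg_of_eq (d := x + 1) hφ (by rw [h, hx])]
    · refine ⟨x + 2, x * (x + 1), by rw [hcard]; ring, ?_, by omega, ?_⟩
      · exact Nat.Coprime.mul_right c1.symm c3.symm
      · rw [deg_of_eq (d := x + 2) hφ (by rw [h, hx]; push_cast; ring)]
  · -- odd
    obtain ⟨m, hm⟩ := ho
    have hm1 : 1 ≤ m := by omega
    set h := 2 * m * (m + 1) with hh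
    have hE2 : Fintype.card E = 2 * h + 1 := by
      rw [hE, hm, hh]
      ring
    have hhe : Even h := by
      rw [hh, mul_assoc]
      exact even_two_mul _
    have hh4 : 4 ≤ h := by
      rw [hh]
      nlinarith
    obtain ⟨hdeg, -, -, -, -, -, hcard⟩ := H727.PslSq.psl_degrees hE2 hh4 hhe
    obtain ⟨d, hd0, hd⟩ := Core.isIrr_apply_one hφ
    have hmem := hdeg d (H727.DegCount.cnt_pos ⟨φ, hφ⟩ hd)
    have hdd := deg_of_eq hφ hd
    have c1 : Nat.Coprime (2 * h) (h + 1) := by
      refine Nat.Coprime.mul_left ?_ ?_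
      · rw [Nat.coprime_two_left]
        exact hhe.add_one
      · rw [Nat.coprime_self_add_right]
        exact Nat.coprime_one_right h
    have c2 : Nat.Coprime (2 * h) (2 * h + 1) := by
      rw [Nat.coprime_self_add_right]
      exact Nat.coprime_one_right _
    have c3 : Nat.Coprime (h + 1) (2 * h + 1) := by
      have : 2 * h + 1 = (h + 1) + h := by ring
      rw [this, Nat.coprime_self_add_right, Nat.coprime_comm, Nat.coprime_self_add_right]
      exact Nat.coprime_one_right h
    simp only [Finset.mem_insert, Finset.mem_singleton] at hmem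
    rcases hmem with h5 | h5 | h5 | h5 | h5
    · exact absurd (by rw [hd, h5, Nat.cast_one]) hd1
    · refine ⟨2 * h + 1, 2 * h * (h + 1), by rw [hcard]; ring, ?_, by omega, by rw [hdd, h5]⟩
      exact Nat.Coprime.mul_right c2.symm c3.symm
    · refine ⟨h + 1, 2 * h * (2 * h + 1), by rw [hcard]; ring, ?_, by omega, by rw [hdd, h5]⟩
      exact Nat.Coprime.mul_right c1.symm c3
    · refine ⟨h + 1, 2 * h * (2 * h + 1), by rw [hcard]; ring, ?_, by omega, by rw [hdd, h5]; exact ⟨2, by ring⟩⟩
      exact Nat.Coprime.mul_right c1.symm c3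
    · refine ⟨2 * h, (h + 1) * (2 * h + 1), by rw [hcard]; ring, ?_, by omega, by rw [hdd, h5]⟩
      exact Nat.Coprime.mul_right c1 c2

/-- **Common zeros**: a nonprincipal irreducible character of `PSL_2(q²)` vanishes on all elements of a certain order. -/
theorem psl2_zero {E : Type v} [Field E] [Fintype E] {q : ℕ} (hE : Fintype.card E = q ^ 2) (hq : 2 ≤ q)
    {K : Type u} [Group K] [Finite K] (e : K ≃* Matrix.ProjectiveSpecialLinearGroup (Fin 2) E)
    (φ : K → ℂ) (hφ : IsIrrCharacter K φ) (h1 : ∃ k, φ k ≠ 1) :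
    ∃ k : K, ∀ k' : K, orderOf k' = orderOf k → φ k' = 0 := by
  have hfin : Finite (Matrix.ProjectiveSpecialLinearGroup (Fin 2) E) := Finite.of_equiv K e.toEquiv
  have hφ' : IsIrrCharacter _ (φ ∘ e.symm) := Core.isIrr_comp e.symm.toMonoidHom e.symm.surjective hφ
  obtain ⟨A, B, hK, hcop, hA, hd⟩ := psl2_hall hE hq hφ' (by
    obtain ⟨k, hk⟩ := h1
    exact ⟨e k, by rwa [Function.comp_apply, e.symm_apply_apply]⟩)
  obtain ⟨k, hk⟩ := zero_of_hall hK hcop hA hφ' hd
  refine ⟨e.symm k, fun k' hk' => ?_⟩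
  have h2 := hk (e k') (by
    have h3 : orderOf (e k') = orderOf k' := orderOf_injective e.toMonoidHom e.injective k'
    have h4 : orderOf (e.symm k) = orderOf k := orderOf_injective e.symm.toMonoidHom e.symm.injective k
    rw [h3, hk', h4])
  rwa [Function.comp_apply, e.symm_apply_apply] at h2

end Cfsg.Agent.H279.OZ
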