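import Cfsg.Agent.H279.OZ.RankOne
import Cfsg.Agent.H279.OZ.U3Iso
import Cfsg.Agent.H279.OZ.U3Reg
import Cfsg.Agent.H394.SqPsu3

/-!
# S4842: the row `PSU(3,q)`, `q ≥ 3` (helper279)

`none_psu3` : no irreducible character of `PSU(3,q)` vanishes on exactly one class.
-/

set_option autoImplicit false

namespace Cfsg.Agent.H279.OZ

open Cfsg Cfsg.Agent.Characters Cfsg.Agent.H730.OZ
open Cfsg.Agent.H732.VZ (Iso)

universe u v

section num

theorem sq_num {q : ℕ} (hq : 1 ≤ q) : (q ^ 2 - q + 1) * (q + 1) = q ^ 3 + 1 := by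
  have h1 : q ≤ q ^ 2 := Nat.le_self_pow (by norm_num) q
  zify [h1]
  ring

theorem not_dvd_num {q N : ℕ} (hq : 3 ≤ q) (hN : Nat.gcd 3 (q + 1) * N = q ^ 3 * ((q ^ 2 - 1) * (q ^ 3 + 1))) :
    ¬ q ^ 6 - 1 ∣ N := by
  intro h
  have h1 : q ^ 6 - 1 ∣ q ^ 3 * ((q ^ 2 - 1) * (q ^ 3 + 1)) := by
    rw [← hN]
    exact h.mul_left _
  obtain ⟨x, rfl⟩ : ∃ x, q = x + 1 := ⟨q - 1, by omega⟩
  have e1 : (x + 1) ^ 6 - 1 = (x * ((x + 1) ^ 3 + 1)) * ((x + 1) ^ 2 + (x + 1) + 1) := by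
    have : (x + 1) ^ 6 = (x * ((x + 1) ^ 3 + 1)) * ((x + 1) ^ 2 + (x + 1) + 1) + 1 := by ring
    omega
  have e2 : (x + 1) ^ 2 - 1 = x * (x + 2) := by
    have : (x + 1) ^ 2 = x * (x + 2) + 1 := by ring
    omega
  rw [e1, e2] at h1
  have h2 : (x + 1) ^ 2 + (x + 1) + 1 ∣ (x + 1) ^ 3 * (x + 2) := by
    have hx : 0 < x := by omega
    refine Nat.dvd_of_mul_dvd_mul_left (k := x * ((x + 1) ^ 3 + 1)) (by positivity) ?_
    convert h1 using 1
    ring
  have h3 : Nat.Coprime ((x + 1) ^ 2 + (x + 1) + 1) (x + 1) := by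
    have : (x + 1) ^ 2 + (x + 1) + 1 = 1 + (x + 1) * (x + 2) := by ring
    rw [this, Nat.coprime_add_mul_left_left]
    exact Nat.coprime_one_left _
  have h4 : (x + 1) ^ 2 + (x + 1) + 1 ∣ x + 2 := (h3.pow_right 3).dvd_of_dvd_mul_left h2
  have h5 := Nat.le_of_dvd (by omega) h4
  nlinarith

end num

section

variable {F : Type u} [Field F] [Fintype F] {q : ℕ}

theorem fact_psu3 (hF : Fintype.card F = q ^ 2) {p a : ℕ} (hp : p.Prime) (ha : 0 < a) (hq : q = p ^ a) :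
    (Nat.card (PSU 3 F q)).factorization p = 3 * a := by
  have hc := H394.SqPsu3.card_psu3 hF
  have hfin : Finite (PSU 3 F q) := Quotient.finite _
  have hN0 : Nat.card (PSU 3 F q) ≠ 0 := Nat.card_pos.ne'
  have hpq : p ∣ q := by rw [hq]; exact dvd_pow_self p ha.ne'
  have hq1 : 1 < q := by
    rw [hq]
    exact Nat.one_lt_pow ha.ne' hp.one_lt
  have h1 : ¬ p ∣ q + 1 := fun h => hp.one_lt.ne' (Nat.dvd_one.1 ((Nat.dvd_add_right hpq).1 h))
  have h2 : ¬ p ∣ q ^ 3 + 1 := fun h =>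
    hp.one_lt.ne' (Nat.dvd_one.1 ((Nat.dvd_add_right (hpq.trans (dvd_pow_self q (by norm_num)))).1 h))
  have h3 : ¬ p ∣ q ^ 2 - 1 := by
    intro h
    have h4 : 1 ≤ q ^ 2 := Nat.one_le_pow _ _ (by omega)
    have h5 : p ∣ q ^ 2 - (q ^ 2 - 1) := Nat.dvd_sub (hpq.trans (dvd_pow_self q (by norm_num))) h
    rw [Nat.sub_sub_self h4] at h5
    exact hp.one_lt.ne' (Nat.dvd_one.1 h5)
  have h4 : ¬ p ∣ Nat.gcd 3 (q + 1) := fun h => h1 (h.trans (Nat.gcd_dvd_right _ _))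
  have hg0 : Nat.gcd 3 (q + 1) ≠ 0 := by
    have : 0 < Nat.gcd 3 (q + 1) := Nat.gcd_pos_of_pos_left _ (by norm_num)
    omega
  have h5 : (Nat.gcd 3 (q + 1) * Nat.card (PSU 3 F q)).factorization p =
      (q ^ 3 * ((q ^ 2 - 1) * (q ^ 3 + 1))).factorization p := by rw [hc]
  have hq2 : q ^ 2 - 1 ≠ 0 := by
    have : 2 ^ 2 ≤ q ^ 2 := Nat.pow_le_pow_left hq1 2
    omega
  rw [Nat.factorization_mul hg0 hN0, Nat.factorization_mul (by positivity) (mul_ne_zero hq2 (by omega)),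
    Nat.factorization_mul hq2 (by omega)] at h5
  simp only [Finsupp.coe_add, Pi.add_apply] at h5
  rw [Nat.factorization_eq_zero_of_not_dvd h4, Nat.factorization_eq_zero_of_not_dvd h3,
    Nat.factorization_eq_zero_of_not_dvd h2, Nat.factorization_pow, hq, Nat.factorization_pow] at h5
  simp only [Finsupp.coe_smul, Pi.smul_apply, smul_eq_mul] at h5
  rw [hp.factorization_self, mul_one, zero_add, add_zero, add_zero] at h5
  rw [hq]
  exact h5

/-- **`PSU(3,q)`** -/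
theorem none_psu3 (hF : Fintype.card F = q ^ 2) (hq3 : 3 ≤ q) {p : ℕ} (hp : p.Prime) (hpq : p ∣ q)
    (hK : Kaw p (PSU 3 F q)) {χ : PSU 3 F q → ℂ} (hχ : IsIrrCharacter (PSU 3 F q) χ) : ¬ OneZero χ := by
  have hfin : Finite (PSU 3 F q) := Quotient.finite _
  have hs : IsSimpleGroup (PSU 3 F q) := Cfsg.Agent.S0283.result hF 3 le_rfl (fun h => by omega)
  obtain ⟨p', a, hp', hchar, hqa, ha⟩ := LieClassical.HermBasic.exists_prime_pow hF
  obtain rfl : p = p' := (Nat.prime_dvd_prime_iff_eq hp hp').1 (hp.dvd_of_dvd_pow (hqa ▸ hpq))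
  have ha0 : 0 < a := by omega
  have hpF : Fact p.Prime := ⟨hp⟩
  have hv := fact_psu3 hF hp ha0 hqa
  have hc := H394.SqPsu3.card_psu3 hF
  -- the prime of order six
  obtain ⟨r, hr, hrp, hord, hordq, hrl⟩ := H448.Van.exists_prim (p := p) (a := a) (d := 6) hp ha0 (by omega) (by
    rintro ⟨rfl, h⟩
    have : a = 1 := by omega
    rw [this, pow_one] at hqa
    omega)
  have hrF : Fact r.Prime := ⟨hr⟩
  have hr5 : 5 ≤ r := by omega
  rw [← hqa] at hordq
  have hqq : q ≤ q ^ 2 := Nat.le_self_pow (by norm_num) q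
  have hz : ((q : ZMod r) ^ 2 - q + 1) = 0 := by
    have h6 : (q : ZMod r) ^ 6 = 1 := by rw [← hordq]; exact pow_orderOf_eq_one _
    have h3 : (q : ZMod r) ^ 3 ≠ 1 := fun h => by
      have := Nat.le_of_dvd (by norm_num) (orderOf_dvd_of_pow_eq_one h)
      omega
    have h2 : (q : ZMod r) ^ 2 ≠ 1 := fun h => by
      have := Nat.le_of_dvd (by norm_num) (orderOf_dvd_of_pow_eq_one h)
      omega
    have h7 : ((q : ZMod r) ^ 3 - 1) * (((q : ZMod r) + 1) * ((q : ZMod r) ^ 2 - q + 1)) = 0 := by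
      linear_combination h6
    rcases mul_eq_zero.1 h7 with h8 | h8
    · exact absurd (sub_eq_zero.1 h8) h3
    rcases mul_eq_zero.1 h8 with h8 | h8
    · exfalso
      apply h2
      have : (q : ZMod r) = -1 := by linear_combination h8
      rw [this]; ring
    · exact h8
  have hd : r ∣ q ^ 2 - q + 1 := by
    rw [← ZMod.natCast_eq_zero_iff]
    push_cast [Nat.cast_sub hqq]
    exact hz
  have hdG : r ∣ Nat.card (PSU 3 F q) := by
    have h1 : r ∣ Nat.gcd 3 (q + 1) * Nat.card (PSU 3 F q) := by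
      rw [hc, ← sq_num (by omega)]
      exact ((hd.mul_right _).mul_left _).mul_left _
    rcases hr.dvd_mul.1 h1 with h2 | h2
    · have := Nat.le_of_dvd (by norm_num) (h2.trans (Nat.gcd_dvd_left _ _))
      omega
    · exact h2
  have hIso := iso_psu3 hF hr hr5 hd hp hpq hdG
  -- the model
  obtain ⟨σ, hσ, hsσ, ⟨f⟩⟩ := H664.R1.U3.exists_iso hF
  obtain ⟨s, h1, h2, h3⟩ := exists_reg (σ := σ) hF hq3 hsσ
  set U := (H664.R1.U3.spS σ).U with hU
  refine none_of_rank_one hs hp hv (by omega) ?_ hK ?_ (H210.Loc.ti_psu3 hF) (r := r) (by omega) (by rw [hord]; ring) hIso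
    (U.comap f.toMonoidHom) ?_ (s := f.symm s) ?_ ?_ ?_ hχ
  · calc 4 < 2 ^ 6 := by norm_num
      _ ≤ p ^ 6 := Nat.pow_le_pow_left hp.two_le 6
      _ ≤ _ := Nat.pow_le_pow_right hp.pos (by omega)
  · have h4 : p ^ (2 * (3 * a)) = q ^ 6 := by
      rw [hqa, ← pow_mul]
      congr 1
      ring
    rw [h4]
    exact not_dvd_num hq3 hc
  · have h4 : Nat.card (U.comap f.toMonoidHom) = Nat.card U :=
      Nat.card_congr (f.toEquiv.subtypeEquiv fun _ => Iff.rfl)
    rw [h4, hU, H664.R1.U3.card_US hF hsσ, hqa, ← pow_mul]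
    congr 1
    ring
  · intro u hu
    have h4 := h1 (f u) hu
    show f ((f.symm s)⁻¹ * u * f.symm s) ∈ U
    rw [map_mul, map_mul, map_inv, f.apply_symm_apply]
    exact h4
  · intro u hu hc
    have h4 : f u * s = s * f u := by
      have := congrArg f hc
      rwa [map_mul, map_mul, f.apply_symm_apply] at this
    have h5 := h2 (f u) hu h4
    exact f.injective (by rw [h5, map_one])
  · intro h4
    apply h3
    obtain ⟨g, hg⟩ := isConj_iff.1 h4
    refine isConj_iff.2 ⟨f g, ?_⟩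
    have := congrArg f hg
    rwa [map_mul, map_mul, map_inv, map_inv, f.apply_symm_apply] at this

end

/-- transport -/
theorem none_congr {G : Type u} {H : Type v} [Group G] [Group H] (e : G ≃* H)
    (h : ∀ χ : H → ℂ, IsIrrCharacter H χ → ¬ OneZero χ) {χ : G → ℂ} (hχ : IsIrrCharacter G χ) : ¬ OneZero χ := by
  rintro ⟨x, hx, hx'⟩
  refine h (fun y => χ (e.symm y)) ?_ ⟨e x, by simpa using hx, fun y hy => ?_⟩
  · exact Core.isIrr_comp e.symm.toMonoidHom e.symm.surjective hχ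
  · obtain ⟨g, hg⟩ := isConj_iff.1 (hx' (e.symm y) hy)
    refine isConj_iff.2 ⟨e g, ?_⟩
    rw [← map_mul, ← map_inv, ← map_mul, hg, e.apply_symm_apply]

/-- **The row `PSU(3,q)`** -/
theorem row_psu3_of {S : Type u} [Group S] [Finite S] {F : Type v} [Field F] [Fintype F] {q : ℕ}
    (hF : Fintype.card F = q ^ 2) (hq3 : 3 ≤ q) (e : S ≃* PSU 3 F q) {p : ℕ} (hp : p.Prime) (hpq : p ∣ q)
    (hK : Kaw p (PSU 3 F q)) : Row S := fun χ hχ h0 =>
  absurd h0 (none_congr e (fun _ h => none_psu3 hF hq3 hp hpq hK h) hχ)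

end Cfsg.Agent.H279.OZ
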