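import Cfsg.Agent.H279.OZ.U3
import Cfsg.Agent.H279.OZ.Kaw
import Cfsg.Agent.Nodes.WittInst

/-!
# S4842, row `PSU_3(q)`, `q ≥ 3` (helper279)
-/

set_option autoImplicit false

open Cfsg Cfsg.Agent.H730.OZ

namespace Cfsg.Agent.H279.OZ

universe u v

/-- **The row `PSU_3(q)`** -/
theorem row_psu3 {S : Type u} [Group S] [Finite S] {F : Type v} [Field F] [Fintype F] {q : ℕ}
    (hF : Fintype.card F = q ^ 2) (hq3 : 3 ≤ q) (e : S ≃* PSU 3 F q) : Row S := by
  obtain ⟨p, hpF⟩ := CharP.exists F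
  have := hpF
  have hp : p.Prime := CharP.char_prime_of_ne_zero F (CharP.char_ne_zero_of_finite F p)
  have : Fact p.Prime := ⟨hp⟩
  have hpq : p ∣ q := by
    have h1 : p ∣ Fintype.card F := by
      obtain ⟨n, -, hn⟩ := FiniteField.card F p
      rw [hn]
      exact dvd_pow_self _ n.pos.ne'
    rw [hF] at h1
    exact hp.dvd_of_dvd_pow h1
  have : Finite (PSU 3 F q) := Finite.of_equiv S e.toEquiv
  exact row_psu3_of hF hq3 e hp hpq (kaw_of_hasRGD hp (Cfsg.Agent.Nodes.WittInst.hasRGD_PSU hF le_rfl))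

end Cfsg.Agent.H279.OZ
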